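import Groth.Agent.Lib.CMReg.StructureMain
import Groth.Agent.Lib.Ample.FiniteGen

/-!
# Finite sums of twists and presentations by free modules
-/

universe u

set_option backward.isDefEq.respectTransparency false

open AlgebraicGeometry CategoryTheory CategoryTheory.Limits TopologicalSpace Opposite
open GrothLib.InvExt (mres)
open GrothLib.Cohom (hhMap)

noncomputable section

namespace GrothLib.CMReg

theorem H_map_sum {T : Type u} [TopologicalSpace T] {F G : Cohom.AbSheaf T} {ι : Type*} (s : Finset ι)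
    (f : ι → (F ⟶ G)) (q : ℕ) (x : Sheaf.H F q) :
    Sheaf.H.map (∑ l ∈ s, f l) q x = ∑ l ∈ s, Sheaf.H.map (f l) q x := by
  classical
  induction s using Finset.induction with
  | empty => simp [Cohom.H_map_eq_comp]
  | insert a s ha ih =>
    rw [Finset.sum_insert ha, Finset.sum_insert ha, ← ih, Cohom.H_map_eq_comp, Cohom.H_map_eq_comp,
      Cohom.H_map_eq_comp, Abelian.Ext.mk₀_add, Abelian.Ext.comp_add]

/-- Classes of a finite sum are sums of classes of the summands. -/
theorem exists_eq_sum_sigma {X : Scheme.{u}} {b : ℕ} (M : Fin b → X.Modules) (q : ℕ) (x : Coh.HH X (∐ M) q) :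
    ∃ y : ∀ l, Coh.HH X (M l) q, x = ∑ l, Sheaf.H.map ((QCoh.toAbFun X).map (Sigma.ι M l)) q (y l) := by
  haveI : HasFiniteBiproducts X.Modules := HasFiniteBiproducts.of_hasFiniteCoproducts
  let π : ∀ l, ∐ M ⟶ M l := fun l => (biproduct.isoCoproduct M).inv ≫ biproduct.π M l
  have htot : ∑ l, π l ≫ Sigma.ι M l = 𝟙 (∐ M) := by
    have hι : ∀ l, Sigma.ι M l = biproduct.ι M l ≫ (biproduct.isoCoproduct M).hom := fun l => by simp
    simp only [π, hι, Category.assoc, ← Preadditive.comp_sum]
    simp only [← Category.assoc (biproduct.π M _), ← Preadditive.sum_comp]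
    rw [biproduct.total, Category.id_comp, Iso.inv_hom_id]
  refine ⟨fun l => Sheaf.H.map ((QCoh.toAbFun X).map (π l)) q x, ?_⟩
  calc x = Sheaf.H.map ((QCoh.toAbFun X).map (∑ l, π l ≫ Sigma.ι M l)) q x := by
        rw [htot, CategoryTheory.Functor.map_id]
        exact (Sheaf.H.map_id_apply _).symm
    _ = _ := by
        rw [Functor.map_sum, H_map_sum]
        exact Finset.sum_congr rfl fun l _ => by rw [Functor.map_comp, Sheaf.H.map_comp_apply]

/-- Cohomology of a finite sum vanishes when that of each summand does. -/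
theorem subsingleton_HH_sigma {X : Scheme.{u}} {b : ℕ} (M : Fin b → X.Modules) {q : ℕ}
    (h : ∀ l, Subsingleton (Coh.HH X (M l) q)) : Subsingleton (Coh.HH X (∐ M) q) := by
  refine subsingleton_of_forall_eq 0 fun x => ?_
  obtain ⟨y, rfl⟩ := exists_eq_sum_sigma M q x
  exact Finset.sum_eq_zero fun l _ => by
    haveI := h l
    rw [Subsingleton.elim (y l) 0, map_zero]

/-- Tensor distributes over finite sums. -/
def tensorSigmaIso {X : Scheme.{u}} {b : ℕ} (M : Fin b → X.Modules) (L : X.Modules) :
    CohB1.tensorMod (∐ M) L ≅ ∐ fun l => CohB1.tensorMod (M l) L :=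
  (PreservesCoproduct.iso ((DCoh.tensorBi (X := X)).flip.obj L) M :)

variable {n : ℕ} {k : Type u} [Field k]

theorem nonempty_Ft_freeMod (b : ℕ) (t : ℤ) :
    Nonempty (Ft (FlatMod.freeMod (CohB1.ProjSpace n k) b) t ≅
      ∐ fun _ : Fin b => Twist.twistProjSpace n k t) :=
  ⟨tensorSigmaIso (X := CohB1.ProjSpace n k) (fun _ : Fin b => Coh.structureModule (CohB1.ProjSpace n k)) _ ≪≫
    Sigma.mapIso fun _ => (nonempty_Ft_structure t).some⟩

theorem subsingleton_Ft_freeMod (b : ℕ) {q : ℕ} (hq : 1 ≤ q) {t : ℤ} (ht : -(q : ℤ) ≤ t) :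
    Subsingleton (Coh.HH (CohB1.ProjSpace n k) (Ft (FlatMod.freeMod (CohB1.ProjSpace n k) b) t) q) :=
  subsingleton_of_iso (nonempty_Ft_freeMod b t).some.symm
    (subsingleton_HH_sigma (X := CohB1.ProjSpace n k) _ fun _ => subsingleton_HH_twist n hq ht)

/-- A spanned module with finite dimensional sections is a quotient of a finite free one, bijectively on
global sections. -/
theorem exists_presentation {X : Scheme.{u}} {A : Type u} [Field A] [X.Over (Spec (CommRingCat.of A))]
    {M : X.Modules} [Module.Finite A (Coh.HH X M 0)] (hM : Spanned M)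
    (hconst : ∀ r : Γ(X, ⊤), ∃ c : A, r = Coh.toGlobal (X ↘ Spec (CommRingCat.of A)) c) :
    ∃ (b : ℕ) (p : FlatMod.freeMod X b ⟶ M), Epi p ∧ Function.Bijective (hhMap A p 0) := by
  let b := Module.finrank A (Coh.HH X M 0)
  let B := Module.finBasis A (Coh.HH X M 0)
  let v : Fin b → Coh.HH X M 0 := B
  have hv : Submodule.span A (Set.range v) = ⊤ := B.span_eq
  let s : Fin b → Γ(M, ⊤) := fun l => ProjCoh.H0top M (v l)
  let p : FlatMod.freeMod X b ⟶ M := Sigma.desc fun l => M.unitHomEquiv.symm (Ample.globalSection M (s l))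
  have hps : ∀ l, p.app ⊤ ((Sigma.ι (fun _ : Fin b => Coh.structureModule X) l).app ⊤
      (show Γ(Coh.structureModule X, ⊤) from (1 : X.ringCatSheaf.obj.obj (op ⊤)))) = s l := by
    intro l
    rw [← ConcreteCategory.comp_apply, ← Scheme.Modules.Hom.comp_app, Sigma.ι_desc]
    have h : M.unitHomEquiv (M.unitHomEquiv.symm (Ample.globalSection M (s l))) = Ample.globalSection M (s l) :=
      Equiv.apply_symm_apply _ _
    exact ((congrArg (fun q => q.1 (op ⊤)) h).trans (InvExt.mres_self M (s l)) : _)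
  refine ⟨b, p, ⟨fun {N : X.Modules} (g : M ⟶ N) (g' : M ⟶ N) hgg => ?_⟩, ?_⟩
  · refine Scheme.Modules.hom_ext g g' fun O => ?_
    ext (m : Γ(M, O))
    have hs : ∀ l, g.app ⊤ (s l) = g'.app ⊤ (s l) := fun l => by
      rw [← hps l, ← ConcreteCategory.comp_apply, ← ConcreteCategory.comp_apply, ← Scheme.Modules.Hom.comp_app,
        hgg]
      rfl
    have hall : ∀ z : Γ(M, ⊤), g.app ⊤ z = g'.app ⊤ z := by
      intro z
      obtain ⟨y, rfl⟩ := (ProjCoh.H0top M).surjective z
      have hy : y ∈ Submodule.span A (Set.range v) := hv ▸ Submodule.mem_top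
      induction hy using Submodule.span_induction with
      | mem w hw => obtain ⟨l, rfl⟩ := hw; exact hs l
      | zero => rw [map_zero, map_zero, map_zero]
      | add a b _ _ ha hb => rw [map_add, map_add, map_add, ha, hb]
      | smul r a _ ha => rw [ProjCoh.H0top_smul, Ample.app_smul, Ample.app_smul, ha]
    choose W hW hxW hspan using fun x : O => hM O m x.1 x.2
    refine Ample.meq_of_cover N W hW (fun x hx => Opens.mem_iSup.mpr ⟨⟨x, hx⟩, hxW ⟨x, hx⟩⟩) fun x => ?_
    rw [← Ample.app_mres, ← Ample.app_mres]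
    have hy := hspan x
    generalize mres M (hW x) m = y at hy ⊢
    induction hy using Submodule.span_induction with
    | mem z hz => obtain ⟨w, rfl⟩ := hz; rw [Ample.app_mres, Ample.app_mres, hall]
    | zero => rw [map_zero, map_zero]
    | add z w _ _ hz hw => rw [map_add, map_add, hz, hw]
    | smul r z _ hz => rw [Ample.app_smul, Ample.app_smul, hz]
  · have hmem : ∀ l, v l ∈ LinearMap.range (hhMap A p 0) := fun l =>
      ⟨(ProjCoh.H0top _).symm ((Sigma.ι (fun _ : Fin b => Coh.structureModule X) l).app ⊤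
        (show Γ(Coh.structureModule X, ⊤) from (1 : X.ringCatSheaf.obj.obj (op ⊤)))),
        (ProjCoh.H0top M).injective (by rw [NegTwist.H0top_hhMap, AddEquiv.apply_symm_apply, hps])⟩
    refine ⟨?_, LinearMap.range_eq_top.1 (top_le_iff.1
      (hv.ge.trans (Submodule.span_le.2 (Set.range_subset_iff.2 hmem))))⟩
    refine (injective_iff_map_eq_zero _).2 fun x hx => ?_
    obtain ⟨y, rfl⟩ := exists_eq_sum_sigma (fun _ : Fin b => Coh.structureModule X) 0 x
    let e : Coh.HH X (Coh.structureModule X) 0 := (ProjCoh.H0top _).symm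
      (show Γ(Coh.structureModule X, ⊤) from (1 : X.ringCatSheaf.obj.obj (op ⊤)))
    have hy : ∀ l, ∃ c : A, y l = c • e := fun l => by
      obtain ⟨c, hc⟩ := hconst (show Γ(X, ⊤) from ProjCoh.H0top _ (y l))
      refine ⟨c, (ProjCoh.H0top _).injective ?_⟩
      rw [ProjCoh.H0top_smul, AddEquiv.apply_symm_apply]
      exact hc.trans (mul_one (M := Γ(X, ⊤)) _).symm
    choose c hc using hy
    have he : ∀ l, hhMap A p 0 (hhMap A (Sigma.ι (fun _ : Fin b => Coh.structureModule X) l) 0 e) = v l := fun l => by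
      apply (ProjCoh.H0top M).injective
      rw [NegTwist.H0top_hhMap, NegTwist.H0top_hhMap, AddEquiv.apply_symm_apply, hps]
    change hhMap A p 0 (∑ l, hhMap A (Sigma.ι (fun _ : Fin b => Coh.structureModule X) l) 0 (y l)) = 0 at hx
    simp only [map_sum, hc, map_smul, he] at hx
    have h0 := Fintype.linearIndependent_iff.1 B.linearIndependent c hx
    exact Finset.sum_eq_zero fun l _ => by rw [hc, h0 l, zero_smul, map_zero]

end GrothLib.CMReg
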