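import Groth.Agent.Lib.CMReg.ProjSpace
import Groth.Agent.Lib.OX.Tensor
import Groth.Agent.Lib.Euler.Support
import Groth.Agent.Lib.Euler.Divisor
import Groth.Agent.Lib.OX.LocFreeTensor

/-!
# Regularity in short exact sequences
-/

universe u

set_option backward.isDefEq.respectTransparency false

open AlgebraicGeometry CategoryTheory CategoryTheory.Limits TopologicalSpace Opposite
open GrothLib.InvExt (mres)

noncomputable section

namespace GrothLib.CMReg

variable {n : ℕ} {k : Type u} [Field k]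

instance isProper_over : IsProper (CohB1.ProjSpace n k ↘ Spec (CommRingCat.of k)) := Chow.isProper_toSpec n k

theorem isFlat_twist (t : ℤ) : FlatMod.IsFlat (Twist.twistProjSpace n k t) :=
  OX.flat_of_isFinLocFree (Euler.isFinLocFree_of_isInvertible (isInvertible_twist t))

/-- The functor `F ↦ F(t)`. -/
abbrev ftFun (t : ℤ) : (CohB1.ProjSpace n k).Modules ⥤ (CohB1.ProjSpace n k).Modules :=
  (DCoh.tensorBi (X := CohB1.ProjSpace n k)).flip.obj (Twist.twistProjSpace n k t)

variable {S : ShortComplex (CohB1.ProjSpace n k).Modules} (hS : S.ShortExact)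

include hS in
theorem ft_shortExact (t : ℤ) : (S.map (ftFun t)).ShortExact := OX.tensor_map_shortExact (isFlat_twist t) hS

include hS in
theorem sub_X₂ {t : ℤ} {i : ℕ} (h₁ : Subsingleton (Coh.HH (CohB1.ProjSpace n k) (Ft S.X₁ t) i))
    (h₃ : Subsingleton (Coh.HH (CohB1.ProjSpace n k) (Ft S.X₃ t) i)) :
    Subsingleton (Coh.HH (CohB1.ProjSpace n k) (Ft S.X₂ t) i) :=
  subsingleton_X₂ (ft_shortExact hS t) h₁ h₃

include hS in
theorem sub_X₃ {t : ℤ} {i : ℕ} (h₂ : Subsingleton (Coh.HH (CohB1.ProjSpace n k) (Ft S.X₂ t) i))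
    (h₁ : Subsingleton (Coh.HH (CohB1.ProjSpace n k) (Ft S.X₁ t) (i + 1))) :
    Subsingleton (Coh.HH (CohB1.ProjSpace n k) (Ft S.X₃ t) i) :=
  subsingleton_X₃ (ft_shortExact hS t) h₂ h₁

include hS in
theorem sub_X₁ {t : ℤ} {i : ℕ} (h₃ : Subsingleton (Coh.HH (CohB1.ProjSpace n k) (Ft S.X₃ t) i))
    (h₂ : Subsingleton (Coh.HH (CohB1.ProjSpace n k) (Ft S.X₂ t) (i + 1))) :
    Subsingleton (Coh.HH (CohB1.ProjSpace n k) (Ft S.X₁ t) (i + 1)) :=
  subsingleton_X₁_succ (ft_shortExact hS t) h₃ h₂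

theorem nonempty_Ft_Ft (F : (CohB1.ProjSpace n k).Modules) (a b c : ℤ) (h : a + b = c) :
    Nonempty (Ft (Ft F a) b ≅ Ft F c) := by
  obtain ⟨g⟩ := GrTilde.nonempty_twist_tensor_twist (𝒜 := CohB1.polyGrading n k) h1 a b
  subst h
  exact ⟨OX.tensorAssoc F (Twist.twistProjSpace n k a) (Twist.twistProjSpace n k b) ≪≫
    Ample.LineData.tensorModMapIso (Iso.refl F) g⟩

theorem support_tensorMod_subset {X : Scheme.{u}} (M L : X.Modules) (hL : PicF.IsInvertible L) :
    CohB1.support (CohB1.tensorMod M L) ⊆ CohB1.support M :=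
  Euler.support_tF_subset (Euler.isFinLocFreeOfRank_one' hL)

/-- Vanishing of one twist of a module with finite support. -/
theorem subsingleton_Ft_of_support_dim_le_zero {Q : (CohB1.ProjSpace n k).Modules} (hQ : Coh.IsCoh Q)
    (hd : topologicalKrullDim (CohB1.support Q) ≤ 0) (t : ℤ) {i : ℕ} (hi : 1 ≤ i) :
    Subsingleton (Coh.HH (CohB1.ProjSpace n k) (Ft Q t) i) := by
  have hsub : CohB1.support (Ft Q t) ⊆ CohB1.support Q :=
    support_tensorMod_subset (X := CohB1.ProjSpace n k) Q _ (isInvertible_twist t)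
  refine Euler.subsingleton_HH_of_support_dim_le_zero k (isCoh_Ft hQ t) (le_trans ?_ hd) i hi
  exact Topology.IsInducing.topologicalKrullDim_le (f := Set.inclusion hsub)
    (Topology.IsEmbedding.inclusion hsub).isInducing

end GrothLib.CMReg
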