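import Groth.Agent.Lib.OX.Exact
import Groth.Agent.Lib.QCoh.GenericPoint
import Groth.Agent.Lib.InvExt.Gen
import Groth.Agent.Lib.Ample.Frame
import Groth.Prelude.Def_ClSub2
import Mathlib.AlgebraicGeometry.Morphisms.ClosedImmersion

/-!
# The sequence of a closed immersion, checked on small affine opens
-/

universe u

set_option backward.isDefEq.respectTransparency false

open AlgebraicGeometry CategoryTheory CategoryTheory.Limits TopologicalSpace Opposite
open GrothLib.InvExt (mres)
open GrothLib.QCoh (stalkLin stalkLin_germ)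

noncomputable section

namespace GrothLib.CMReg

variable {X Z : Scheme.{u}} (j : Z ⟶ X) [IsClosedImmersion j]

theorem unitToPush_app (U : X.Opens) (r : Γ(X, U)) :
    (show Γ(Z, j ⁻¹ᵁ U) from (ClSub.unitToPush j).app U r) = j.app U r := rfl

theorem surjective_stalk_unitToPush (x : X) : Function.Surjective (stalkLin (ClSub.unitToPush j) x) := by
  intro e
  obtain ⟨U, hx, m, rfl⟩ := TopCat.Presheaf.exists_germ_eq
    ((Scheme.Modules.pushforward j).obj (Coh.structureModule Z)).presheaf e
  obtain ⟨W, hW, hxW, hWU⟩ := exists_isAffineOpen_mem_and_subset (x := x) (U := U) hx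
  obtain ⟨r, hr⟩ := j.app_surjective W hW
    (((Scheme.Modules.pushforward j).obj (Coh.structureModule Z)).presheaf.map
      (homOfLE (show W ≤ U from hWU)).op m)
  refine ⟨(Coh.structureModule X).presheaf.germ W x hxW r, ?_⟩
  rw [stalkLin_germ]
  exact (congrArg _ (show (ClSub.unitToPush j).app W r =
    ((Scheme.Modules.pushforward j).obj (Coh.structureModule Z)).presheaf.map
      (homOfLE (show W ≤ U from hWU)).op m from hr)).trans (TopCat.Presheaf.germ_res_apply _ _ _ _ _)

/-- If near each point `ι` is injective on affine opens with image the kernel of `O_X → j_* O_Z`, the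
sequence is short exact. -/
theorem shortExact_of_local {K : X.Modules} (ι : K ⟶ Coh.structureModule X) (w : ι ≫ ClSub.unitToPush j = 0)
    (h : ∀ x : X, ∃ V : X.Opens, x ∈ V ∧ ∀ T : X.affineOpens, T.1 ≤ V →
      Function.Injective (ι.app T.1) ∧ ∀ r : Γ(X, T.1), j.app T.1 r = 0 → ∃ b, ι.app T.1 b = r) :
    (ShortComplex.mk ι (ClSub.unitToPush j) w).ShortExact := by
  refine (OX.shortExact_iff _).2 fun x => ?_
  obtain ⟨V, hxV, hV⟩ := h x
  have hsmall : ∀ (U : X.Opens), x ∈ U → ∃ T : X.affineOpens, x ∈ T.1 ∧ T.1 ≤ U ∧ T.1 ≤ V := fun U hU => by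
    obtain ⟨W, hW, hxW, hWU⟩ := exists_isAffineOpen_mem_and_subset (x := x) (U := U ⊓ V) ⟨hU, hxV⟩
    exact ⟨⟨W, hW⟩, hxW, fun y hy => (hWU hy).1, fun y hy => (hWU hy).2⟩
  refine { exact := ?_, mono_f := ?_, epi_g := ?_ }
  · rw [ShortComplex.moduleCat_exact_iff]
    intro z hz
    obtain ⟨U, hxU, r, rfl⟩ := TopCat.Presheaf.exists_germ_eq (Coh.structureModule X).presheaf
      (show (Coh.structureModule X).presheaf.stalk x from z)
    replace hz : stalkLin (ClSub.unitToPush j) x ((Coh.structureModule X).presheaf.germ U x hxU r) = 0 := hz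
    rw [stalkLin_germ] at hz
    obtain ⟨W, hxW, i₁, i₂, hW⟩ := TopCat.Presheaf.germ_eq
      ((Scheme.Modules.pushforward j).obj (Coh.structureModule Z)).presheaf x hxU hxU _ 0
      (hz.trans (map_zero _).symm)
    obtain ⟨T, hxT, hTW, hTV⟩ := hsmall W hxW
    have h0 : j.app T.1 (mres (Coh.structureModule X) (hTW.trans i₁.le) r) = 0 := by
      refine (Ample.app_mres (ClSub.unitToPush j) (hTW.trans i₁.le) r).trans ?_
      rw [← InvExt.mres_mres _ i₁.le hTW]
      refine (congrArg (mres _ hTW) (hW.trans ?_)).trans (map_zero _)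
      exact map_zero _
    obtain ⟨b, hb⟩ := (hV T hTV).2 _ h0
    refine ⟨K.presheaf.germ T.1 x hxT b, ?_⟩
    show stalkLin ι x (K.presheaf.germ T.1 x hxT b) = _
    rw [stalkLin_germ, hb]
    exact TopCat.Presheaf.germ_res_apply _ _ _ _ _
  · rw [ModuleCat.mono_iff_injective]
    refine (injective_iff_map_eq_zero _).2 fun z hz => ?_
    obtain ⟨U, hxU, b, rfl⟩ := TopCat.Presheaf.exists_germ_eq K.presheaf (show K.presheaf.stalk x from z)
    replace hz : stalkLin ι x (K.presheaf.germ U x hxU b) = 0 := hz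
    rw [stalkLin_germ] at hz
    obtain ⟨W, hxW, i₁, i₂, hW⟩ := TopCat.Presheaf.germ_eq (Coh.structureModule X).presheaf x hxU hxU _ 0
      (hz.trans (map_zero _).symm)
    obtain ⟨T, hxT, hTW, hTV⟩ := hsmall W hxW
    have h0 : mres K (hTW.trans i₁.le) b = 0 := by
      refine (hV T hTV).1 ?_
      rw [Ample.app_mres, map_zero, ← InvExt.mres_mres _ i₁.le hTW]
      refine (congrArg (mres _ hTW) (hW.trans ?_)).trans (map_zero _)
      exact map_zero _
    refine (TopCat.Presheaf.germ_res_apply K.presheaf (homOfLE (hTW.trans i₁.le)) x hxT b).symm.trans ?_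
    exact (congrArg _ h0).trans (map_zero _)
  · rw [ModuleCat.epi_iff_surjective]
    exact surjective_stalk_unitToPush j x

end GrothLib.CMReg
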