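import Groth.Agent.Lib.CMReg.Extension
import Groth.Agent.Lib.CMReg.ClosedSeq
import Groth.Agent.Lib.Hyperplane.ZeroScheme
import Groth.Agent.Lib.Hyperplane.Pullback
import Groth.Agent.Lib.ProjDim.Const
import Groth.Agent.Lib.ProjFormula.Iso
import Groth.Agent.Lib.RelProjK.OpenMap
import Groth.Agent.Lib.Ample.Functorial
import Groth.Agent.Lib.Cohom.Compare
import Groth.Agent.S7676

/-!
# The structure sheaf of projective space is `0`-regular
-/

universe u

set_option backward.isDefEq.respectTransparency false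

open AlgebraicGeometry CategoryTheory CategoryTheory.Limits TopologicalSpace Opposite MvPolynomial
open GrothLib.InvExt (mres)
open GrothLib.Ample (Cocycle res)
open HomogeneousLocalization

noncomputable section

namespace GrothLib.CMReg

variable {n : ℕ} {k : Type u} [Field k]

theorem coordSect_component (i : ULift.{u} (Fin (n + 1))) (l : Fin (n + 1)) :
    res (le_inf le_top le_rfl : (cc n k).D i ≤ ⊤ ⊓ (cc n k).D i) ((coordSect n k l).1 i) =
      Proj.awayToSection (CohB1.polyGrading n k) (X i.down) (Ample.ProjMap.ratio i.down l) := by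
  let P := cc n k
  let φ := Ample.ProjMap.pcocIso n k
  let a : P.sect 1 ⊤ := φ.hom.app ⊤ (ProjUP.coord n k l)
  have ha : coordSect n k l = a := dif_pos l.2
  rw [ha]
  have h : P.sectRes (le_top : P.D i ≤ ⊤) a =
      (show Γ(CohB1.ProjSpace n k, P.D i) from
        Proj.awayToSection (CohB1.polyGrading n k) (X i.down) (Ample.ProjMap.ratio i.down l)) •
      P.base 1 i le_rfl := by
    refine (Ample.app_mres φ.hom (le_top : P.D i ≤ ⊤) (ProjUP.coord n k l)).symm.trans ?_
    refine (congrArg (φ.hom.app (P.D i)) (Ample.ProjMap.coord_eq_smul_base l i)).trans ?_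
    refine (Ample.app_smul φ.hom _ _).trans (congrArg (_ • ·) ?_)
    exact congrArg (fun f : P.twist 1 ⟶ P.twist 1 => f.app (P.D i) (P.base 1 i le_rfl)) φ.inv_hom_id
  have h' := congrArg (fun t : P.sect 1 (P.D i) => res (le_inf le_rfl le_rfl : P.D i ≤ P.D i ⊓ P.D i) (t.1 i)) h
  simp only [P.smul_apply, P.sectRes_apply, P.base_self, mul_one, Ample.res_res] at h'
  exact h'

theorem nonempty_tensorMod_structure {X : Scheme.{u}} (M : X.Modules) :
    Nonempty (CohB1.tensorMod (Coh.structureModule X) M ≅ M) :=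
  ⟨OX.tensorUnitLeftIso _⟩

theorem nonempty_Ft_structure (t : ℤ) :
    Nonempty (Ft (Coh.structureModule (CohB1.ProjSpace n k)) t ≅ Twist.twistProjSpace n k t) :=
  nonempty_tensorMod_structure (X := CohB1.ProjSpace n k) _

theorem nonempty_twist_zero :
    Nonempty (Twist.twistProjSpace n k 0 ≅ Coh.structureModule (CohB1.ProjSpace n k)) :=
  (GrTilde.nonempty_structureModule_iso_twist_zero (CohB1.polyGrading n k)).map Iso.symm

theorem eq_appTop_of_isIso {K A : CommRingCat.{u}} {X : Scheme.{u}} (f : X ⟶ Spec K) (φ : K ⟶ A)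
    (g : Spec A ⟶ X) [IsIso g] (w : g ≫ f = Spec.map φ) (r : Γ(X, ⊤)) (c : K)
    (h : φ c = (Scheme.ΓSpecIso A).hom (g.appTop r)) : r = f.appTop ((Scheme.ΓSpecIso K).inv c) := by
  apply (ConcreteCategory.bijective_of_isIso g.appTop).1
  rw [← ConcreteCategory.comp_apply f.appTop, ← Scheme.Hom.comp_appTop, w, ← ConcreteCategory.comp_apply,
    ← Scheme.ΓSpecIso_inv_naturality, ConcreteCategory.comp_apply, h]
  exact (ConcreteCategory.congr_hom (Scheme.ΓSpecIso A).hom_inv_id (g.appTop r)).symm

/-- Global functions are constants. -/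
theorem exists_eq_const (r : Γ(CohB1.ProjSpace n k, ⊤)) :
    ∃ c, r = (CohB1.ProjSpace.toSpec n k).appTop c := by
  rcases Nat.eq_zero_or_pos n with rfl | hn
  · let ι₀ := Proj.awayι (CohB1.polyGrading 0 k) (X 0) (Ample.ProjMap.X_mem 0) one_pos
    have hsurj : Surjective ι₀ := ⟨fun x => by
      obtain ⟨i, hi⟩ := Opens.mem_iSup.mp ((Ample.ProjMap.iSup_basicOpen_X 0 k).ge (Opens.mem_top x))
      obtain rfl : i = 0 := Fin.eq_zero i
      have hx : x ∈ ι₀.opensRange := by rw [Proj.opensRange_awayι]; exact hi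
      exact hx⟩
    haveI : IsIso ι₀ := by
      haveI : Epi ι₀.base := (TopCat.epi_iff_surjective _).2 hsurj.surj
      exact IsOpenImmersion.isIso ι₀
    obtain ⟨a, ha⟩ := Ample.ProjMap.exists_eval_ratio (0 : Fin 1)
      ((Scheme.ΓSpecIso (CommRingCat.of (Away (CohB1.polyGrading 0 k) (X 0)))).hom (ι₀.appTop r))
    obtain ⟨c, hc⟩ : ∃ c : k, eval₂Hom (Ample.ProjMap.cst (X (0 : Fin 1)))
        (Ample.ProjMap.ratio (0 : Fin 1)) a = Ample.ProjMap.cst (X (0 : Fin 1)) c := by
      refine ⟨eval₂ (RingHom.id k) (fun _ => 1) a, ?_⟩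
      clear ha
      have hratio : ∀ l : Fin 1, Ample.ProjMap.ratio (R := k) (0 : Fin 1) l = 1 := fun l => by
        obtain rfl : l = 0 := Fin.eq_zero l
        refine HomogeneousLocalization.val_injective _ ?_
        rw [Ample.ProjMap.ratio, Away.val_mk, HomogeneousLocalization.val_one]
        simp [Localization.mk_eq_mk', IsLocalization.mk'_self', pow_one]
      exact DFunLike.congr_fun (show eval₂Hom (Ample.ProjMap.cst (X (0 : Fin 1))) (Ample.ProjMap.ratio (0 : Fin 1)) =
        (Ample.ProjMap.cst (X (0 : Fin 1))).comp (eval₂Hom (RingHom.id k) fun _ => 1) from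
          MvPolynomial.ringHom_ext (fun b => by simp) (fun l => by simp [hratio l])) a
    rw [hc] at ha
    exact ⟨_, eq_appTop_of_isIso (CohB1.ProjSpace.toSpec 0 k) _ ι₀ (Ample.ProjMap.awayι_toSpec 0) r c ha⟩
  · exact ProjDim.exists_eq_toSpec_appTop hn r

variable (n k) in
/-- The coordinate hyperplane. -/
theorem exists_hyperplane :
    ∃ (j : CohB1.ProjSpace n k ⟶ CohB1.ProjSpace (n + 1) k) (_ : IsClosedImmersion j)
      (ι : Twist.twistProjSpace (n + 1) k (-1) ⟶ Coh.structureModule (CohB1.ProjSpace (n + 1) k))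
      (w : ι ≫ ClSub.unitToPush j = 0),
      (ShortComplex.mk ι (ClSub.unitToPush j) w).ShortExact ∧
      j ≫ CohB1.ProjSpace.toSpec (n + 1) k = CohB1.ProjSpace.toSpec n k ∧
      Nonempty ((Scheme.Modules.pullback j).obj (Twist.twistProjSpace (n + 1) k 1) ≅ Twist.twistProjSpace n k 1) := by
  classical
  let L : Fin (n + 1 + 1) := Fin.last (n + 1)
  let A := CohB1.polyGrading (n + 1) k
  obtain ⟨ψ, hψs, hker, hψC⟩ := Groth.Agent.S7676.exists_projection k n (X L) (isHomogeneous_X k L) (X_ne_zero L)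
  have hψ := Groth.Agent.S7676.irrelevant_le_map A (CohB1.polyGrading n k) ψ hψs
  let j : CohB1.ProjSpace n k ⟶ CohB1.ProjSpace (n + 1) k := Proj.map ψ hψ
  haveI hjc : IsClosedImmersion j := GradedAlg.isClosedImmersion_map ψ hψ hψs
  let P := cc (n + 1) k
  let a := coordSect (n + 1) k L
  let K := Twist.twistProjSpace (n + 1) k (-1)
  obtain ⟨e0⟩ := nonempty_twist_zero (n := n + 1) (k := k)
  obtain ⟨q⟩ := P.nonempty_tensor_modTwist K 1
  obtain ⟨g⟩ := GrTilde.nonempty_twist_tensor_twist (𝒜 := A) h1 (-1) 1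
  let θ : (tw P).obj K ≅ Coh.structureModule (CohB1.ProjSpace (n + 1) k) :=
    q.symm ≪≫ Ample.LineData.tensorModMapIso (Iso.refl _) (Ample.ProjMap.pcocIso (n + 1) k).symm ≪≫ g ≪≫
      eqToIso (congrArg (Twist.twistProjSpace (n + 1) k) (neg_add_cancel 1)) ≪≫ e0
  let ι := raise P a K ≫ θ.hom
  let t : ∀ i : P.ι, Γ(CohB1.ProjSpace (n + 1) k, P.D i) := fun i =>
    Proj.awayToSection A (X i.down) (Ample.ProjMap.ratio i.down L)
  -- the local description of `ι`
  have hι : ∀ (i : P.ι) (T : (CohB1.ProjSpace (n + 1) k).Opens) (hT : T ≤ P.D i) (b : Γ(K, T)),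
      ι.app T b = res hT (t i) *
        (show Γ(CohB1.ProjSpace (n + 1) k, T) from θ.hom.app T (show Γ((tw P).obj K, T) from P.mbase 1 i hT b)) := by
    intro i T hT b
    have h : (raise P a K).app T b = res hT (t i) • (show Γ((tw P).obj K, T) from P.mbase 1 i hT b) := by
      refine P.msect_ext_of_le hT ?_
      rw [raise_app_apply, P.msmul_apply, P.mbase_self, show t i = _ from (coordSect_component i L).symm,
        Ample.res_res, Ample.res_res]
    show θ.hom.app T ((raise P a K).app T b) = _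
    rw [h, Ample.app_smul]
    rfl
  -- the kernel of `O → j_* O`
  have hkerj : ∀ i : P.ι, j.ker.ideal (GradedAlg.dPlus A (X i.down) (Ample.ProjMap.X_mem i.down) one_pos) =
      Ideal.span {t i} := by
    intro i
    have hbij := GradedAlg.awayToSection_bijective (𝒜 := A) (X i.down) (Ample.ProjMap.X_mem i.down) one_pos
    rw [Scheme.Hom.ker_apply]
    apply Ideal.comap_injective_of_surjective _ hbij.2
    have hr : Ideal.comap (Proj.awayToSection A (X i.down)).hom (Ideal.span {t i}) =
        Ideal.span {Ample.ProjMap.ratio i.down L} := by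
      have h2 := Ideal.comap_map_of_bijective (Proj.awayToSection A (X i.down)).hom hbij
        (I := Ideal.span {Ample.ProjMap.ratio i.down L})
      rwa [Ideal.map_span, Set.image_singleton] at h2
    rw [hr, RingHom.comap_ker]
    have h := congrArg CommRingCat.Hom.hom
      (Proj.awayToSection_comp_appLE ψ hψ (i := 1) (s := X i.down) (Ample.ProjMap.X_mem i.down))
    rw [CommRingCat.hom_comp, CommRingCat.hom_comp] at h
    rw [Scheme.Hom.app_eq_appLE]
    change RingHom.ker (((Proj.map ψ hψ).appLE (Proj.basicOpen A (X i.down))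
      (Proj.basicOpen (CohB1.polyGrading n k) (ψ (X i.down))) (by rfl)).hom.comp
        (Proj.awayToSection A (X i.down)).hom) = _
    rw [h, RingHom.ker_comp_of_injective _
      (GradedAlg.awayToSection_bijective (ψ (X i.down)) (ψ.2 (Ample.ProjMap.X_mem i.down)) one_pos).1]
    exact Hyperplane.ker_away_map (isHomogeneous_X k L) ψ hker (Ample.ProjMap.X_mem i.down)
  have hjt : ∀ i : P.ι, j.app (P.D i) (t i) = 0 := fun i => by
    have h : t i ∈ j.ker.ideal (GradedAlg.dPlus A (X i.down) (Ample.ProjMap.X_mem i.down) one_pos) :=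
      (hkerj i).ge (Ideal.mem_span_singleton_self _)
    rw [Scheme.Hom.ker_apply] at h
    exact h
  have hjt' : ∀ (i : P.ι) (T : (CohB1.ProjSpace (n + 1) k).Opens) (hT : T ≤ P.D i),
      j.app T (res hT (t i)) = 0 := fun i T hT => by
    refine (ConcreteCategory.congr_hom (j.naturality (homOfLE hT).op) (t i)).trans ?_
    rw [ConcreteCategory.comp_apply]
    exact (congrArg _ (hjt i)).trans (map_zero _)
  have w : ι ≫ ClSub.unitToPush j = 0 := by
    refine Scheme.Modules.hom_ext _ _ fun U => ?_
    ext (b : Γ(K, U))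
    refine Ample.meq_of_cover ((Scheme.Modules.pushforward j).obj (Coh.structureModule _))
      (fun i : P.ι => U ⊓ P.D i) (fun _ => inf_le_left) (P.iSup_inf_D U) fun i => ?_
    refine Eq.trans ?_ (map_zero _).symm
    show mres _ _ ((ι ≫ ClSub.unitToPush j).app U b) = _
    rw [← Ample.app_mres]
    show (ClSub.unitToPush j).app _ (ι.app _ _) = _
    rw [hι i _ inf_le_right]
    show j.app _ (_ * _) = _
    rw [map_mul, hjt' i _ inf_le_right, zero_mul]
  refine ⟨j, hjc, ι, w, shortExact_of_local j ι w fun x => ?_, ?_,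
    Hyperplane.nonempty_pullback_twist_one ψ hψ
      (fun i : ULift.{u} (Fin (n + 1 + 1)) => X i.down) (fun i => Ample.ProjMap.X_mem i.down) P.cover⟩
  · obtain ⟨i, hi⟩ := P.exists_mem x
    refine ⟨P.D i, hi, fun T hT => ⟨?_, fun r hr => ?_⟩⟩
    · haveI : IsIntegral (CohB1.ProjSpace (n + 1) k) := ProjDim.isIntegral_proj k (n + 1)
      by_cases hne : Nonempty T.1
      · have ht : res hT (t i) ≠ 0 := by
          intro h0
          have h1 : t i = 0 := by
            apply (map_injective_of_isIntegral (CohB1.ProjSpace (n + 1) k) (homOfLE hT))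
            rw [map_zero]
            exact h0
          have h2 : Ample.ProjMap.ratio (R := k) i.down L = 0 :=
            (GradedAlg.awayToSection_bijective (𝒜 := A) (X i.down) (Ample.ProjMap.X_mem i.down) one_pos).1
              (h1.trans (map_zero _).symm)
          have h3 := Ample.ProjMap.ratio_val (R := k) i.down L
          rw [h2, HomogeneousLocalization.val_zero, zero_mul] at h3
          exact X_ne_zero L (IsLocalization.injective (Localization.Away (X i.down : MvPolynomial (Fin (n + 1 + 1)) k))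
            (Submonoid.powers_le.2 (mem_nonZeroDivisors_of_ne_zero (X_ne_zero i.down))) (h3.symm.trans (map_zero _).symm))
        intro b b' hb
        rw [hι i T.1 hT, hι i T.1 hT] at hb
        haveI : IsDomain Γ(CohB1.ProjSpace (n + 1) k, T.1) := inferInstance
        have h4 : (show Γ((tw P).obj K, T.1) from P.mbase 1 i hT b) = P.mbase 1 i hT b' :=
          (ConcreteCategory.bijective_of_isIso (θ.hom.app T.1)).1
            (mul_left_cancel₀ (M₀ := Γ(CohB1.ProjSpace (n + 1) k, T.1)) ht hb)
        have h5 := congrArg (fun z : P.msect K 1 T.1 => mres K (le_inf le_rfl hT) (z.1 i)) h4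
        simp only [P.mbase_self, InvExt.mres_mres, InvExt.mres_self] at h5
        exact h5
      · intro b b' _
        have hbot : T.1 = ⊥ := Opens.ext (Set.eq_empty_of_forall_notMem fun z hz => hne ⟨⟨z, hz⟩⟩)
        haveI : Subsingleton Γ(CohB1.ProjSpace (n + 1) k, T.1) :=
          CommRingCat.subsingleton_of_isTerminal ((CohB1.ProjSpace (n + 1) k).sheaf.isTerminalOfEqEmpty hbot)
        rw [← one_smul Γ(CohB1.ProjSpace (n + 1) k, T.1) b, ← one_smul Γ(CohB1.ProjSpace (n + 1) k, T.1) b',
          Subsingleton.elim (1 : Γ(CohB1.ProjSpace (n + 1) k, T.1)) 0, zero_smul, zero_smul]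
    · have hmem : r ∈ j.ker.ideal T := by rw [Scheme.Hom.ker_apply]; exact hr
      rw [← j.ker.map_ideal (V := GradedAlg.dPlus A (X i.down) (Ample.ProjMap.X_mem i.down) one_pos)
        (show T ≤ GradedAlg.dPlus A (X i.down) (Ample.ProjMap.X_mem i.down) one_pos from hT), hkerj i,
        Ideal.map_span, Set.image_singleton, Ideal.mem_span_singleton'] at hmem
      obtain ⟨(c : Γ(CohB1.ProjSpace (n + 1) k, T.1)), hc⟩ := hmem
      obtain ⟨z, hz⟩ := (ConcreteCategory.bijective_of_isIso (θ.hom.app T.1)).2 c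
      refine ⟨mres K (le_inf le_rfl hT) ((show P.msect K 1 T.1 from z).1 i), ?_⟩
      rw [hι i T.1 hT, ← P.eq_mbase i hT (show P.msect K 1 T.1 from z), hz, mul_comm]
      exact hc
  · show Proj.map ψ hψ ≫ Proj.toSpecZero A ≫ _ = Proj.toSpecZero _ ≫ _
    rw [← Category.assoc, RelProjK.map_toSpecZero, Category.assoc, ← Spec.map_comp]
    congr 2
    refine CommRingCat.hom_ext (RingHom.ext fun b => Subtype.ext ?_)
    show ψ (C b) = C b
    exact hψC b

end GrothLib.CMReg
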