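import Groth.Agent.Lib.CMReg.StructureRegular
import Groth.Agent.Lib.GrTilde.Mul

/-!
# `O` on projective space is `0`-regular: cohomology of the twists `O(t)`, `t ≥ -i`
-/

universe u

set_option backward.isDefEq.respectTransparency false

open AlgebraicGeometry CategoryTheory CategoryTheory.Limits TopologicalSpace Opposite
open GrothLib.Cohom (hhMap hhDelta)

noncomputable section

namespace GrothLib.CMReg

theorem isCoh_structure {X : Scheme.{u}} [IsLocallyNoetherian X] : Coh.IsCoh (Coh.structureModule X) :=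
  Euler.isCoh_of_isInvertible Euler.isInvertible_structure

theorem nonempty_tensorMod_push {X Y : Scheme.{u}} (j : X ⟶ Y) [IsAffineHom j] (E : Y.Modules)
    (hE : FlatMod.IsFinLocFree E) :
    Nonempty (CohB1.tensorMod ((Scheme.Modules.pushforward j).obj (Coh.structureModule X)) E ≅
      (Scheme.Modules.pushforward j).obj ((Scheme.Modules.pullback j).obj E)) := by
  haveI := ProjFormula.isIso_projHom j hE (Coh.structureModule X)
  exact ⟨GrTilde.tensorModComm _ _ ≪≫ asIso (ProjFormula.projHom j E (Coh.structureModule X)) ≪≫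
    (Scheme.Modules.pushforward j).mapIso (GrTilde.tensorModComm _ _ ≪≫ OX.tensorUnitLeftIso _)⟩

theorem nonempty_iso_of_inverse {X : Scheme.{u}} {M N P : X.Modules}
    (h : CohB1.tensorMod M P ≅ Coh.structureModule X) (h' : CohB1.tensorMod P N ≅ Coh.structureModule X) :
    Nonempty (M ≅ N) :=
  ⟨(OX.tensorUnitLeftIso M).symm ≪≫ GrTilde.tensorModComm _ _ ≪≫
    Ample.LineData.tensorModMapIso (Iso.refl M) h'.symm ≪≫ (OX.tensorAssoc M P N).symm ≪≫
    Ample.LineData.tensorModMapIso h (Iso.refl N) ≪≫ OX.tensorUnitLeftIso N⟩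

variable {n : ℕ} {k : Type u} [Field k]

theorem nonempty_twist_add {a b c : ℤ} (h : a + b = c) :
    Nonempty (CohB1.tensorMod (Twist.twistProjSpace n k a) (Twist.twistProjSpace n k b) ≅
      Twist.twistProjSpace n k c) := by
  subst h
  exact GrTilde.nonempty_twist_tensor_twist (𝒜 := CohB1.polyGrading n k) h1 a b

section Pullback

variable {m : ℕ} {j : CohB1.ProjSpace n k ⟶ CohB1.ProjSpace m k}
  (he : Nonempty ((Scheme.Modules.pullback j).obj (Twist.twistProjSpace m k 1) ≅ Twist.twistProjSpace n k 1))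

include he

theorem nonempty_pullback_twist_nat : ∀ a : ℕ,
    Nonempty ((Scheme.Modules.pullback j).obj (Twist.twistProjSpace m k a) ≅ Twist.twistProjSpace n k a) := by
  intro a
  induction a with
  | zero =>
    obtain ⟨e⟩ := nonempty_twist_zero (n := m) (k := k)
    obtain ⟨e'⟩ := nonempty_twist_zero (n := n) (k := k)
    obtain ⟨g⟩ := Ample.nonempty_pullback_structureModule j
    exact ⟨(Scheme.Modules.pullback j).mapIso e ≪≫ g ≪≫ e'.symm⟩
  | succ a ih =>
    obtain ⟨e⟩ := nonempty_twist_add (n := m) (k := k) (show (a : ℤ) + 1 = ((a + 1 : ℕ) : ℤ) by simp)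
    obtain ⟨e'⟩ := nonempty_twist_add (n := n) (k := k) (show (a : ℤ) + 1 = ((a + 1 : ℕ) : ℤ) by simp)
    obtain ⟨g⟩ := Ample.nonempty_pullback_tensorMod j (isInvertible_twist (n := m) (k := k) a)
      (isInvertible_twist (n := m) (k := k) 1)
    exact ⟨(Scheme.Modules.pullback j).mapIso e.symm ≪≫ g ≪≫
      Ample.LineData.tensorModMapIso ih.some he.some ≪≫ e'⟩

theorem nonempty_pullback_twist (t : ℤ) :
    Nonempty ((Scheme.Modules.pullback j).obj (Twist.twistProjSpace m k t) ≅ Twist.twistProjSpace n k t) := by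
  rcases le_total 0 t with h | h
  · lift t to ℕ using h
    exact nonempty_pullback_twist_nat he t
  · obtain ⟨a, rfl⟩ : ∃ a : ℕ, t = -(a : ℤ) := ⟨(-t).toNat, by omega⟩
    obtain ⟨e⟩ := nonempty_twist_add (n := n) (k := k) (add_neg_cancel (a : ℤ))
    obtain ⟨e0⟩ := nonempty_twist_zero (n := n) (k := k)
    obtain ⟨d⟩ := nonempty_twist_add (n := m) (k := k) (neg_add_cancel (a : ℤ))
    obtain ⟨d0⟩ := nonempty_twist_zero (n := m) (k := k)
    obtain ⟨g⟩ := Ample.nonempty_pullback_tensorMod j (isInvertible_twist (n := m) (k := k) (-a))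
      (isInvertible_twist (n := m) (k := k) a)
    obtain ⟨s⟩ := Ample.nonempty_pullback_structureModule j
    exact nonempty_iso_of_inverse (X := CohB1.ProjSpace n k)
      (Ample.LineData.tensorModMapIso (Iso.refl _) (nonempty_pullback_twist_nat he a).some.symm ≪≫ g.symm ≪≫
        (Scheme.Modules.pullback j).mapIso (d ≪≫ d0) ≪≫ s) (e ≪≫ e0)

end Pullback

theorem h1dim_structure_eq (t : ℤ) : h1dim (Coh.structureModule (CohB1.ProjSpace n k)) t =
    Module.finrank k (Coh.HH (CohB1.ProjSpace n k) (Twist.twistProjSpace n k t) 1) :=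
  LinearEquiv.finrank_eq (Euler.hhEquiv (A := k) (nonempty_Ft_structure t).some 1)

/-- `O` is `0`-regular. -/
theorem structure_regular : ∀ (n : ℕ) (i : ℕ), 1 ≤ i →
    Subsingleton (Coh.HH (CohB1.ProjSpace n k) (Ft (Coh.structureModule (CohB1.ProjSpace n k)) (-i)) i) := by
  intro n
  induction n with
  | zero =>
    intro i hi
    haveI := (isCoh_Ft (isCoh_structure (X := CohB1.ProjSpace 0 k)) (-i)).1
    exact subsingleton_HH_of_lt _ hi
  | succ n ih =>
    obtain ⟨j, hjc, ι, w, hS, hj, he⟩ := exists_hyperplane n k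
    let S := ShortComplex.mk ι (ClSub.unitToPush j) w
    haveI : Mono ι := hS.mono_f
    let F := Coh.structureModule (CohB1.ProjSpace (n + 1) k)
    have hF : Coh.IsCoh F := isCoh_structure
    let ι' : Ft F (-1) ⟶ F := (nonempty_Ft_structure (n := n + 1) (k := k) (-1)).some.hom ≫ ι
    haveI : Mono ι' := mono_comp _ _
    let eG : cokernel ι' ≅ (Scheme.Modules.pushforward j).obj (Coh.structureModule (CohB1.ProjSpace n k)) :=
      cokernelEpiComp _ ι ≪≫ (cokernelIsCokernel ι).coconePointUniqueUpToIso hS.gIsCokernel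
    have hO : Coh.IsCoh (Coh.structureModule (CohB1.ProjSpace n k)) := isCoh_structure
    have hG : ∀ i : ℕ, 1 ≤ i → i ≤ n + 1 →
        Subsingleton (Coh.HH (CohB1.ProjSpace (n + 1) k) (Ft (cokernel ι') (0 - i)) i) := by
      intro i hi _
      obtain ⟨e⟩ := nonempty_tensorMod_push j (Twist.twistProjSpace (n + 1) k (0 - i))
        (Euler.isFinLocFree_of_isInvertible (isInvertible_twist _))
      obtain ⟨g⟩ := nonempty_pullback_twist he (0 - i : ℤ)
      refine subsingleton_of_iso ((Ample.LineData.tensorModMapIso eG (Iso.refl _) ≪≫ e ≪≫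
        (Scheme.Modules.pushforward j).mapIso (g ≪≫ (nonempty_Ft_structure _).some.symm)).symm) ?_
      haveI := (isCoh_Ft hO (0 - i)).1
      obtain ⟨q⟩ := Cohom.nonempty_HH_equiv_pushforward j (Ft (Coh.structureModule (CohB1.ProjSpace n k)) (0 - i)) i
      rw [zero_sub] at q ⊢
      haveI := ih i hi
      exact q.symm.toEquiv.subsingleton
    -- `H¹(O(-1)) → H¹(O)` is injective as constants lift
    have hg0 : Function.Surjective (hhMap k S.g 0) := by
      intro x
      obtain ⟨c, hc⟩ := exists_eq_const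
        (show Γ(CohB1.ProjSpace n k, ⊤) from ProjCoh.H0top S.X₃ x)
      obtain ⟨y, hy⟩ := (ProjCoh.H0top S.X₂).surjective
        (show Γ(CohB1.ProjSpace (n + 1) k, ⊤) from (CohB1.ProjSpace.toSpec (n + 1) k).appTop c)
      refine ⟨y, (ProjCoh.H0top S.X₃).injective ?_⟩
      rw [NegTwist.H0top_hhMap, hy]
      refine Eq.trans ?_ hc.symm
      rw [← hj, Scheme.Hom.comp_appTop]
      rfl
    have hinj : Function.Injective (hhMap k S.f 1) := by
      refine (injective_iff_map_eq_zero _).2 fun x hx => ?_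
      obtain ⟨z, rfl⟩ := ((Cohom.exact₁ (A := k) hS 0) x).1 hx
      obtain ⟨y, rfl⟩ := hg0 z
      exact (Cohom.exact₃ (A := k) hS 0).apply_apply_eq_zero y
    have hle : h1dim F (-1) ≤ h1dim F 0 := by
      rw [h1dim_structure_eq, h1dim_structure_eq,
        LinearEquiv.finrank_eq (Euler.hhEquiv (A := k) (nonempty_twist_zero (n := n + 1) (k := k)).some 1)]
      haveI : FiniteDimensional k (Coh.HH (CohB1.ProjSpace (n + 1) k) S.X₂ 1) :=
        Euler.finiteDimensional_HH k hF 1
      exact LinearMap.finrank_le_finrank_of_injective hinj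
    have h0 : h1dim F (0 - 1) = 0 := by
      by_contra h
      have := h1dim_lt (ι := ι') hF hG 0 le_rfl h
      rw [zero_sub] at this
      omega
    intro i hi
    have h := regular_of_extension (ι := ι') hF hG i hi
    rwa [h0, Nat.cast_zero, add_zero, zero_sub] at h

/-- `H^i(P^n, O(t)) = 0` for `i ≥ 1`, `t ≥ -i`. -/
theorem subsingleton_HH_twist (n : ℕ) {i : ℕ} (hi : 1 ≤ i) {t : ℤ} (ht : -(i : ℤ) ≤ t) :
    Subsingleton (Coh.HH (CohB1.ProjSpace n k) (Twist.twistProjSpace n k t) i) :=
  subsingleton_of_iso (nonempty_Ft_structure t).some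
    (propagate (isCoh_structure (X := CohB1.ProjSpace n k)) 0
      (fun i hi _ => by rw [zero_sub]; exact structure_regular n i hi) i t hi (by omega))

end GrothLib.CMReg
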