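import Groth.Agent.Lib.CMReg.Free
import Groth.Agent.Lib.OX.FlatLocFree
import Groth.Agent.Lib.OX.LocFreeTensor
import Groth.Agent.Lib.QCoh.SupportExact
import Groth.Prelude.Def_Curv2
import Mathlib.Algebra.Homology.Augment
import Mathlib.Algebra.Homology.Single

/-!
# Linear resolutions on projective space
-/

universe u

set_option backward.isDefEq.respectTransparency false

open AlgebraicGeometry CategoryTheory CategoryTheory.Limits TopologicalSpace Opposite
open GrothLib.Cohom (hhMap)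

noncomputable section

namespace GrothLib.CMReg

variable {n : ℕ} {k : Type u} [Field k]

theorem exists_toGlobal_eq (r : Γ(CohB1.ProjSpace n k, ⊤)) :
    ∃ c : k, r = Coh.toGlobal (CohB1.ProjSpace n k ↘ Spec (CommRingCat.of k)) c := by
  obtain ⟨c, hc⟩ := exists_eq_const r
  refine ⟨(Scheme.ΓSpecIso (CommRingCat.of k)).hom c, hc.trans ?_⟩
  exact congrArg (CohB1.ProjSpace.toSpec n k).appTop
    (ConcreteCategory.congr_hom (Scheme.ΓSpecIso (CommRingCat.of k)).hom_inv_id c).symm

/-- `O(s)^b`. -/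
abbrev sumTwist (n : ℕ) (k : Type u) [Field k] (b : ℕ) (s : ℤ) : (CohB1.ProjSpace n k).Modules :=
  ∐ fun _ : Fin b => Twist.twistProjSpace n k s

theorem nonempty_Ft_sumTwist (b : ℕ) (s t v : ℤ) (h : s + t = v) :
    Nonempty (Ft (sumTwist n k b s) t ≅ sumTwist n k b v) :=
  ⟨tensorSigmaIso (X := CohB1.ProjSpace n k) (fun _ : Fin b => Twist.twistProjSpace n k s) _ ≪≫
    Sigma.mapIso fun _ => (nonempty_twist_add h).some⟩

theorem isCoh_sumTwist (b : ℕ) (s : ℤ) : Coh.IsCoh (sumTwist n k b s) :=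
  Euler.isCoh_of_isFinLocFree (OX.isFinLocFree_sigma (X := CohB1.ProjSpace n k) _ fun _ =>
    Euler.isFinLocFree_of_isInvertible (isInvertible_twist s))

theorem regular_sumTwist (b : ℕ) (m : ℤ) : Curv2.IsMRegular k n (sumTwist n k b (-m)) m := by
  intro i hi _
  obtain ⟨e⟩ := nonempty_Ft_sumTwist (n := n) (k := k) b (-m) (m - i) (-i) (by ring)
  exact subsingleton_of_iso e.symm
    (subsingleton_HH_sigma (X := CohB1.ProjSpace n k) _ fun _ => subsingleton_HH_twist n hi le_rfl)

theorem subsingleton_X₁_zero {X : Scheme.{u}} [X.Over (Spec (CommRingCat.of k))]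
    {S : ShortComplex X.Modules} (hS : S.ShortExact) (h : Function.Injective (hhMap k S.g 0)) :
    Subsingleton (Coh.HH X S.X₁ 0) := by
  haveI := hS.mono_f
  refine subsingleton_of_forall_eq 0 fun x => NegTwist.injective_hhMap_zero k S.f ?_
  rw [map_zero]
  refine h ?_
  rw [(Cohom.exact₂ (A := k) hS 0).apply_apply_eq_zero, map_zero]

/-- The first step of the linear resolution of a regular module: the kernel is one more regular, and its
low twists have one more vanishing. -/
theorem exists_linear_step {F : (CohB1.ProjSpace n k).Modules} (hF : Coh.IsCoh F) (m : ℤ)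
    (hreg : Curv2.IsMRegular k n F m) :
    ∃ (b : ℕ) (φ : sumTwist n k b (-m) ⟶ F), Epi φ ∧ Coh.IsCoh (kernel φ) ∧
      Curv2.IsMRegular k n (kernel φ) (m + 1) ∧
      ∀ j, j ≤ n → (∀ i, i < j → Subsingleton (Coh.HH _ (Ft F (m - 1 - i)) i)) →
        ∀ i, i < j + 1 → Subsingleton (Coh.HH _ (Ft (kernel φ) (m + 1 - 1 - i)) i) := by
  haveI : Module.Finite k (Coh.HH (CohB1.ProjSpace n k) (Ft F m) 0) := finiteDimensional_Ft hF m 0
  obtain ⟨b, p, hp, hpb⟩ := exists_presentation (A := k) (spanned_of_regular hF m hreg m le_rfl)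
    exists_toGlobal_eq
  have hS0 : (ShortComplex.mk (kernel.ι p) p (kernel.condition p)).ShortExact :=
    { exact := ShortComplex.exact_of_f_is_kernel _ (kernelIsKernel p) }
  have hS1 := ft_shortExact hS0 (-m)
  set S1 := (ShortComplex.mk (kernel.ι p) p (kernel.condition p)).map (ftFun (-m)) with hS1def
  obtain ⟨e1⟩ := nonempty_Ft_freeMod (n := n) (k := k) b (-m)
  obtain ⟨e2⟩ := nonempty_Ft_Ft F m (-m) 0 (add_neg_cancel m)
  obtain ⟨e3⟩ := nonempty_twist_zero (n := n) (k := k)
  let a : Ft (Ft F m) (-m) ≅ F := e2 ≪≫ Ample.LineData.tensorModMapIso (Iso.refl F) e3 ≪≫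
    GrTilde.tensorModComm (X := CohB1.ProjSpace n k) _ _ ≪≫ OX.tensorUnitLeftIso _
  let φ : sumTwist n k b (-m) ⟶ F := e1.inv ≫ S1.g ≫ a.hom
  haveI := hS1.epi_g
  haveI : Epi φ := epi_comp _ _
  let eK : kernel φ ≅ S1.X₁ := kernelIsIsoComp e1.inv (S1.g ≫ a.hom) ≪≫ kernelCompMono S1.g a.hom ≪≫
    (kernelIsKernel S1.g).conePointUniqueUpToIso hS1.fIsKernel
  have hfree : Coh.IsCoh (FlatMod.freeMod (CohB1.ProjSpace n k) b) :=
    Euler.isCoh_of_isFinLocFree (OX.isFinLocFree_freeMod _ b)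
  have hK : Coh.IsCoh (kernel p) := QCoh.isCoh_kernel p hfree (isCoh_Ft hF m)
  -- the twists of the kernel
  have hKt : ∀ (t : ℤ) (i : ℕ), Subsingleton (Coh.HH _ (Ft (kernel p) t) i) →
      Subsingleton (Coh.HH _ (Ft (kernel φ) (m + t)) i) := by
    intro t i h
    obtain ⟨g⟩ := nonempty_Ft_Ft (kernel p) (-m) (m + t) t (by ring)
    exact subsingleton_of_iso (Ample.LineData.tensorModMapIso eK (Iso.refl _) ≪≫ g).symm h
  have hF' : ∀ (t v : ℤ) (i : ℕ), m + t = v → Subsingleton (Coh.HH _ (Ft F v) i) →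
      Subsingleton (Coh.HH _ (Ft (Ft F m) t) i) := fun t v i h =>
    subsingleton_of_iso (nonempty_Ft_Ft F m t v h).some.symm
  have hzero : Subsingleton (Coh.HH _ (Ft (kernel p) 0) 0) := by
    refine subsingleton_of_iso ?_ (subsingleton_X₁_zero (k := k) hS0 hpb.1)
    exact (OX.tensorUnitLeftIso _).symm ≪≫ GrTilde.tensorModComm (X := CohB1.ProjSpace n k) _ _ ≪≫
      Ample.LineData.tensorModMapIso (Iso.refl _) e3.symm
  refine ⟨b, φ, inferInstance, QCoh.isCoh_of_iso eK.symm (isCoh_Ft hK (-m)), ?_, ?_⟩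
  · intro i hi hin
    rw [show (m + 1 - i : ℤ) = m + (1 - i) by ring]
    refine hKt _ _ ?_
    obtain ⟨q, rfl⟩ : ∃ q, i = q + 1 := ⟨i - 1, by omega⟩
    rcases Nat.eq_zero_or_pos q with rfl | hq
    · -- degree one: sections lift
      have h2 : Subsingleton (Coh.HH _ (FlatMod.freeMod (CohB1.ProjSpace n k) b) 1) :=
        subsingleton_HH_sigma (X := CohB1.ProjSpace n k) _ fun _ =>
          subsingleton_of_iso e3 (subsingleton_HH_twist n le_rfl (by norm_num))
      have h1 : Subsingleton (Coh.HH _ (kernel p) 1) := by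
        refine subsingleton_of_forall_eq 0 fun x => ?_
        obtain ⟨y, rfl⟩ := ((Cohom.exact₁ (A := k) hS0 0) x).1 (Subsingleton.elim _ _)
        obtain ⟨z, rfl⟩ := hpb.2 y
        exact (Cohom.exact₃ (A := k) hS0 0).apply_apply_eq_zero z
      rw [show (1 : ℤ) - ((0 + 1 : ℕ) : ℤ) = 0 by simp]
      exact subsingleton_of_iso ((OX.tensorUnitLeftIso _).symm ≪≫
        GrTilde.tensorModComm (X := CohB1.ProjSpace n k) _ _ ≪≫
        Ample.LineData.tensorModMapIso (Iso.refl _) e3.symm) h1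
    · refine sub_X₁ hS0 (hF' _ _ _ ?_ (hreg q hq (by omega)))
        (subsingleton_Ft_freeMod b (by omega) (by omega))
      push_cast; ring
  · intro j hj hC i hi
    rw [show (m + 1 - 1 - i : ℤ) = m + (-(i : ℤ)) by ring]
    refine hKt _ _ ?_
    rcases i with _ | q
    · simpa using hzero
    · refine sub_X₁ hS0 (hF' _ _ _ ?_ (hC q (by omega)))
        (subsingleton_Ft_freeMod b (by omega) le_rfl)
      push_cast; ring

/-- A regular module with vanishing low twists in all degrees below `n` is a sum of twists. -/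
theorem isIso_linear_step {F : (CohB1.ProjSpace n k).Modules} (hF : Coh.IsCoh F) (m : ℤ)
    (hreg : Curv2.IsMRegular k n F m)
    (hC : ∀ i, i < n → Subsingleton (Coh.HH _ (Ft F (m - 1 - i)) i)) :
    ∃ b : ℕ, Nonempty (sumTwist n k b (-m) ≅ F) := by
  obtain ⟨b, φ, hφ, hK, -, hlow⟩ := exists_linear_step hF m hreg
  have h := hlow n le_rfl hC
  have hKreg : ∀ i : ℕ, 1 ≤ i → i ≤ n → Subsingleton (Coh.HH _ (Ft (kernel φ) (m - i)) i) :=
    fun i _ hi => by simpa using h i (by omega)
  have hsp := spanned_of_regular hK m hKreg m le_rfl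
  haveI h0 : Subsingleton (Coh.HH _ (Ft (kernel φ) m) 0) := by simpa using h 0 (by omega)
  have hz : IsZero (Ft (kernel φ) m) := by
    rw [IsZero.iff_id_eq_zero]
    refine Scheme.Modules.hom_ext _ _ fun O => ?_
    ext (z : Γ(Ft (kernel φ) m, O))
    refine Ample.meq_of_cover (Ft (kernel φ) m) (fun x : O => (hsp O z x.1 x.2).choose)
      (fun x => (hsp O z x.1 x.2).choose_spec.choose)
      (fun x hx => Opens.mem_iSup.mpr ⟨⟨x, hx⟩, (hsp O z x hx).choose_spec.choose_spec.1⟩) fun x => ?_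
    have hy := (hsp O z x.1 x.2).choose_spec.choose_spec.2
    have hzero : ∀ s : Γ(Ft (kernel φ) m, ⊤), s = 0 := fun s =>
      (ProjCoh.H0top _).symm.injective (Subsingleton.elim _ _)
    have hy' := (Submodule.span_le (p := (⊥ : Submodule _ _))).2
      (by rintro _ ⟨s, rfl⟩; rw [SetLike.mem_coe, Submodule.mem_bot]; dsimp only; rw [hzero s]; exact map_zero _) hy
    rw [Submodule.mem_bot] at hy'
    exact hy'.trans (map_zero _).symm
  have hz' : IsZero (kernel φ) := by
    obtain ⟨e2⟩ := nonempty_Ft_Ft (kernel φ) m (-m) 0 (add_neg_cancel m)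
    obtain ⟨e3⟩ := nonempty_twist_zero (n := n) (k := k)
    exact IsZero.of_iso ((ftFun (n := n) (k := k) (-m)).map_isZero hz)
      ((OX.tensorUnitLeftIso _).symm ≪≫ GrTilde.tensorModComm (X := CohB1.ProjSpace n k) _ _ ≪≫
        Ample.LineData.tensorModMapIso (Iso.refl _) e3.symm ≪≫ e2.symm)
  haveI : Mono φ := Preadditive.mono_of_isZero_kernel φ hz'
  haveI : IsIso φ := isIso_of_mono_of_epi φ
  exact ⟨b, ⟨asIso φ⟩⟩

/-- Regularity from a one-step presentation by twists. -/
theorem regular_of_epi {F : (CohB1.ProjSpace n k).Modules} (m : ℤ) {b : ℕ}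
    (φ : sumTwist n k b (-m) ⟶ F) [Epi φ] (hK : Curv2.IsMRegular k n (kernel φ) (m + 1))
    (hKc : Coh.IsCoh (kernel φ)) : Curv2.IsMRegular k n F m := by
  intro i hi hin
  refine sub_X₃ (S := ShortComplex.mk (kernel.ι φ) φ (kernel.condition φ))
    { exact := ShortComplex.exact_of_f_is_kernel _ (kernelIsKernel φ) } (regular_sumTwist b m i hi hin)
    (propagate hKc (m + 1) hK (i + 1) _ (by omega) (by push_cast; omega))

end GrothLib.CMReg
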