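import Groth.Agent.Lib.CMReg.Linear
import Mathlib.Algebra.Homology.ShortComplex.Exact

/-!
# Resolutions by sums of twists of length at most `n`
-/

universe u

set_option backward.isDefEq.respectTransparency false

open AlgebraicGeometry CategoryTheory CategoryTheory.Limits

noncomputable section

namespace GrothLib.CMReg

variable {n : ℕ} {k : Type u} [Field k]

/-- `F` has a resolution of length at most `d` by sums of twists. -/
def HasTwistResolution (F : (CohB1.ProjSpace n k).Modules) (d : ℕ) : Prop :=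
  ∃ (C : ChainComplex (CohB1.ProjSpace n k).Modules ℕ) (π : C.X 0 ⟶ F) (w : C.d 1 0 ≫ π = 0),
    (∀ i : ℕ, d < i → IsZero (C.X i)) ∧
    (∀ i : ℕ, ∃ (m : ℕ) (e : Fin m → ℤ), Nonempty (C.X i ≅ ∐ fun j : Fin m => Twist.twistProjSpace n k (e j))) ∧
    (∀ i : ℕ, 1 ≤ i → IsZero (C.homology i)) ∧ Epi π ∧ (ShortComplex.mk (C.d 1 0) π w).Exact

theorem hasTwistResolution_zero {F : (CohB1.ProjSpace n k).Modules} {b : ℕ} {s : ℤ}
    (e : sumTwist n k b s ≅ F) : HasTwistResolution F 0 := by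
  let C := (ChainComplex.single₀ (CohB1.ProjSpace n k).Modules).obj (sumTwist n k b s)
  have hz : ∀ i : ℕ, 0 < i → IsZero (C.X i) := fun i hi =>
    HomologicalComplex.isZero_single_obj_X (ComplexShape.down ℕ) 0 _ i (by omega)
  refine ⟨C, (HomologicalComplex.singleObjXSelf (ComplexShape.down ℕ) 0 _).hom ≫ e.hom, (hz 1 one_pos).eq_of_src _ _, hz,
    fun i => ?_, fun i hi => ?_, inferInstance, ?_⟩
  · rcases Nat.eq_zero_or_pos i with rfl | hi
    · exact ⟨b, fun _ => s, ⟨HomologicalComplex.singleObjXSelf (ComplexShape.down ℕ) 0 _⟩⟩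
    · refine ⟨0, Fin.elim0, ⟨(hz i hi).iso ?_⟩⟩
      rw [IsZero.iff_id_eq_zero]
      exact Sigma.hom_ext _ _ fun j => Fin.elim0 j
  · rw [← HomologicalComplex.exactAt_iff_isZero_homology]
    exact ShortComplex.exact_of_isZero_X₂ _ (hz i hi)
  · rw [ShortComplex.exact_iff_mono _ ((hz 1 one_pos).eq_of_src _ _)]
    infer_instance

theorem hasTwistResolution_succ {F : (CohB1.ProjSpace n k).Modules} {b : ℕ} {s : ℤ}
    (φ : sumTwist n k b s ⟶ F) [Epi φ] {d : ℕ} (h : HasTwistResolution (kernel φ) d) :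
    HasTwistResolution F (d + 1) := by
  obtain ⟨C, π, w, hzero, hsum, hhom, hπ, hex⟩ := h
  have w' : C.d 1 0 ≫ π ≫ kernel.ι φ = 0 := by rw [← Category.assoc, w, zero_comp]
  let D := ChainComplex.augment C (π ≫ kernel.ι φ) w'
  refine ⟨D, φ, show (π ≫ kernel.ι φ) ≫ φ = 0 by rw [Category.assoc, kernel.condition, comp_zero],
    fun i hi => ?_, fun i => ?_, fun i hi => ?_, ‹_›, ?_⟩
  · obtain ⟨q, rfl⟩ : ∃ q, i = q + 1 := ⟨i - 1, by omega⟩
    exact hzero q (by omega)
  · rcases i with _ | q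
    · exact ⟨b, fun _ => s, ⟨Iso.refl _⟩⟩
    · exact hsum q
  · obtain ⟨q, rfl⟩ : ∃ q, i = q + 1 := ⟨i - 1, by omega⟩
    rw [← HomologicalComplex.exactAt_iff_isZero_homology,
      HomologicalComplex.exactAt_iff' D (q + 2) (q + 1) q ((ComplexShape.down ℕ).prev_eq' rfl)
        ((ComplexShape.down ℕ).next_eq' rfl)]
    rcases q with _ | q
    · let a : ShortComplex.mk (C.d 1 0) π w ⟶ D.sc' 2 1 0 :=
        { τ₁ := 𝟙 (C.X 1), τ₂ := 𝟙 (C.X 0), τ₃ := kernel.ι φ,
          comm₁₂ := (Category.id_comp _).trans (Category.comp_id _).symm,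
          comm₂₃ := Category.id_comp _ }
      haveI : Epi a.τ₁ := inferInstanceAs (Epi (𝟙 (C.X 1)))
      haveI : IsIso a.τ₂ := inferInstanceAs (IsIso (𝟙 (C.X 0)))
      haveI : Mono a.τ₃ := inferInstanceAs (Mono (kernel.ι φ))
      exact (ShortComplex.exact_iff_of_epi_of_isIso_of_mono a).1 hex
    · have h1 := hhom (q + 1) (by omega)
      rw [← HomologicalComplex.exactAt_iff_isZero_homology,
        HomologicalComplex.exactAt_iff' C (q + 2) (q + 1) q ((ComplexShape.down ℕ).prev_eq' rfl)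
          ((ComplexShape.down ℕ).next_eq' rfl)] at h1
      exact h1
  · let a : ShortComplex.mk (π ≫ kernel.ι φ) φ (by simp) ⟶ ShortComplex.mk (kernel.ι φ) φ (kernel.condition φ) :=
      { τ₁ := π, τ₂ := 𝟙 _, τ₃ := 𝟙 _, comm₁₂ := (Category.comp_id _).symm, comm₂₃ := by simp }
    exact (ShortComplex.exact_iff_of_epi_of_isIso_of_mono a).2
      (ShortComplex.exact_of_f_is_kernel _ (kernelIsKernel φ))

theorem hasTwistResolution_of_regular : ∀ (d j : ℕ), j + d = n →
    ∀ (F : (CohB1.ProjSpace n k).Modules), Coh.IsCoh F → ∀ m : ℤ, Curv2.IsMRegular k n F m →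
      (∀ i, i < j → Subsingleton (Coh.HH _ (Ft F (m - 1 - i)) i)) → HasTwistResolution F d := by
  intro d
  induction d with
  | zero =>
    intro j hj F hF m hreg hC
    obtain ⟨b, ⟨e⟩⟩ := isIso_linear_step hF m hreg fun i hi => hC i (by omega)
    exact hasTwistResolution_zero e
  | succ d ih =>
    intro j hj F hF m hreg hC
    obtain ⟨b, φ, hφ, hK, hKreg, hlow⟩ := exists_linear_step hF m hreg
    exact hasTwistResolution_succ φ (ih (j + 1) (by omega) _ hK (m + 1) hKreg (hlow j (by omega) hC))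

theorem exists_regular {F : (CohB1.ProjSpace n k).Modules} (hF : Coh.IsCoh F) :
    ∃ m, Curv2.IsMRegular k n F m := by
  obtain ⟨t₀, ht₀⟩ := exists_serre_bound hF
  exact ⟨t₀ + n, fun i hi hin => ht₀ _ (by omega) i hi⟩

theorem hasTwistResolution {F : (CohB1.ProjSpace n k).Modules} (hF : Coh.IsCoh F) : HasTwistResolution F n := by
  obtain ⟨m, hm⟩ := exists_regular hF
  exact hasTwistResolution_of_regular n 0 (zero_add n) F hF m hm fun i hi => absurd hi (Nat.not_lt_zero i)

end GrothLib.CMReg
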