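import Groth.Agent.Lib.CMReg.Chase
import Groth.Agent.Lib.Ample.ProjAmple
import Groth.Agent.Lib.Ample.Generation
import Groth.Agent.Lib.GrTilde.Amp
import Groth.Agent.Lib.Euler.TensorSupport
import Groth.Agent.Lib.Euler.Coh
import Groth.Agent.Lib.OX.TensorAssoc
import Groth.Agent.Lib.Cohom.Vanishing
import Groth.Agent.Lib.QCoh.LocGenCases
import Groth.Agent.Lib.Chow.Prod
import Groth.Prelude.Def_Curv2

/-!
# Castelnuovo–Mumford regularity on projective space over a field
-/

universe u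

set_option backward.isDefEq.respectTransparency false

open AlgebraicGeometry CategoryTheory CategoryTheory.Limits TopologicalSpace Opposite
open GrothLib.InvExt (mres)
open GrothLib.Ample (Cocycle res)

noncomputable section

namespace GrothLib.CMReg

variable {n : ℕ} {k : Type u} [Field k]

variable (n k) in
/-- The cocycle of `O(1)`, on `P^n_k`. -/
abbrev cc : Cocycle (CohB1.ProjSpace n k) := Ample.ProjMap.pcoc n k

variable (n k) in
/-- The coordinates as sections, extended by zero. -/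
def coordSect (l : ℕ) : (cc n k).sect 1 ⊤ :=
  if h : l < n + 1 then (Ample.ProjMap.pcocIso n k).hom.app ⊤ (ProjUP.coord n k ⟨l, h⟩) else 0

theorem exists_notMem (x : CohB1.ProjSpace n k) :
    ∃ b ∈ CohB1.polyGrading n k 1, b ∉ x.asHomogeneousIdeal := by
  obtain ⟨i, hi⟩ := Opens.mem_iSup.mp ((Ample.ProjMap.iSup_basicOpen_X n k).ge (Opens.mem_top x))
  exact ⟨_, Ample.ProjMap.X_mem i, hi⟩

theorem covers : Covers (cc n k) (coordSect n k) (n + 1) := by
  intro x
  obtain ⟨i, hi⟩ := Opens.mem_iSup.mp ((Ample.ProjMap.iSup_basicOpen_X n k).ge (Opens.mem_top x))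
  refine ⟨i, i.2, ?_⟩
  have h := GrTilde.locus_eq_basicOpen (𝒜 := CohB1.polyGrading n k) (N := 1) exists_notMem (cc n k)
    (Ample.ProjMap.pcocIso n k) (Ample.ProjMap.X_mem i)
  rw [coordSect, dif_pos i.2]
  exact h.ge hi

instance isNoetherian_projSpace : IsNoetherian (CohB1.ProjSpace n k) := by
  haveI := Chow.isProper_toSpec n k
  haveI := LocallyOfFiniteType.isLocallyNoetherian (CohB1.ProjSpace.toSpec n k)
  haveI : CompactSpace (CohB1.ProjSpace n k) :=
    QuasiCompact.compactSpace_of_compactSpace (CohB1.ProjSpace.toSpec n k)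
  exact ⟨⟩

/-- `F(t)`. -/
abbrev Ft (F : (CohB1.ProjSpace n k).Modules) (t : ℤ) : (CohB1.ProjSpace n k).Modules :=
  CohB1.tensorMod F (Twist.twistProjSpace n k t)

theorem h1 : ∀ p : Proj (CohB1.polyGrading n k), ∃ f : MvPolynomial (Fin (n + 1)) k,
    f ∈ CohB1.polyGrading n k 1 ∧ f ∉ p.asHomogeneousIdeal := exists_notMem

theorem nonempty_tw_Ft (F : (CohB1.ProjSpace n k).Modules) (t : ℤ) :
    Nonempty ((tw (cc n k)).obj (Ft F t) ≅ Ft F (t + 1)) := by
  obtain ⟨e⟩ := (cc n k).nonempty_tensor_modTwist (Ft F t) 1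
  obtain ⟨g⟩ := GrTilde.nonempty_twist_tensor_twist (𝒜 := CohB1.polyGrading n k) h1 t 1
  exact ⟨e.symm ≪≫ Ample.LineData.tensorModMapIso (Iso.refl _) (Ample.ProjMap.pcocIso n k).symm ≪≫
    OX.tensorAssoc F (Twist.twistProjSpace n k t) (Twist.twistProjSpace n k 1) ≪≫
    Ample.LineData.tensorModMapIso (Iso.refl F) g⟩

/-- Iterated twists of `F(t)`. -/
theorem nonempty_twPow_Ft (F : (CohB1.ProjSpace n k).Modules) :
    ∀ (s : ℕ) (t u : ℤ), t + s = u → Nonempty ((twPow (cc n k) s).obj (Ft F t) ≅ Ft F u) := by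
  intro s
  induction s with
  | zero => intro t u h; exact ⟨eqToIso (by rw [← h, Nat.cast_zero, add_zero]; rfl)⟩
  | succ s ih =>
    intro t u h
    obtain ⟨e⟩ := nonempty_tw_Ft F t
    obtain ⟨g⟩ := ih (t + 1) u (by rw [← h]; push_cast; ring)
    exact ⟨(twPow (cc n k) s).mapIso e ≪≫ g⟩

theorem isInvertible_twist (t : ℤ) : PicF.IsInvertible (Twist.twistProjSpace n k t) :=
  GrTilde.isInvertible_twist (𝒜 := CohB1.polyGrading n k) h1 t

theorem isCoh_tensorMod {X : Scheme.{u}} [IsLocallyNoetherian X] {M L : X.Modules} (hM : Coh.IsCoh M)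
    (hL : PicF.IsInvertible L) : Coh.IsCoh (CohB1.tensorMod M L) :=
  Euler.isCoh_tF hM (Euler.isFinLocFree_of_isInvertible hL)

theorem isCoh_Ft {F : (CohB1.ProjSpace n k).Modules} (hF : Coh.IsCoh F) (t : ℤ) : Coh.IsCoh (Ft F t) :=
  isCoh_tensorMod (X := CohB1.ProjSpace n k) hF (isInvertible_twist t)

theorem subsingleton_HH_of_lt (M : (CohB1.ProjSpace n k).Modules) [M.IsQuasicoherent] {i : ℕ} (hi : n < i) :
    Subsingleton (Coh.HH (CohB1.ProjSpace n k) M i) := by
  haveI := Chow.isProper_toSpec n k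
  haveI : (CohB1.ProjSpace n k).IsSeparated :=
    ⟨by
      rw [show terminal.from (CohB1.ProjSpace n k) = CohB1.ProjSpace.toSpec n k ≫ terminal.from _ from
        Subsingleton.elim _ _]
      infer_instance⟩
  let U : Fin (n + 1) → (CohB1.ProjSpace n k).Opens := fun j =>
    Proj.basicOpen (CohB1.polyGrading n k) (MvPolynomial.X j)
  have h := Cohom.vanishFrom_iSup M IsAffineOpen (fun _ h => h) (fun _ _ h h' => IsAffineOpen.inf h h') (n + 1) U
    fun j => Proj.isAffineOpen_basicOpen _ _ (Ample.ProjMap.X_mem j) one_pos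
  have hU : (⨆ j, U j) = ⊤ := Ample.ProjMap.iSup_basicOpen_X n k
  rw [hU] at h
  exact h.subsingleton_HH hi

variable {F : (CohB1.ProjSpace n k).Modules} (hF : Coh.IsCoh F)

include hF in
/-- One step of dimension shifting. -/
theorem subsingleton_Ft (a : ℤ) {i : ℕ}
    (h : ∀ u : ℕ, u ≤ n → i + u ≤ n → Subsingleton (Coh.HH (CohB1.ProjSpace n k) (Ft F (a - 1 - u)) (i + u))) :
    Subsingleton (Coh.HH (CohB1.ProjSpace n k) (Ft F a) i) := by
  obtain ⟨e⟩ := nonempty_twPow_Ft F (n + 1) (a - (n + 1 : ℕ)) a (by ring)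
  refine subsingleton_of_iso e (subsingleton_twPow covers _ fun s hs => ?_)
  obtain ⟨g⟩ := nonempty_twPow_Ft F s (a - (n + 1 : ℕ)) (a - 1 - ((n - s : ℕ) : ℤ))
    (by push_cast [Nat.cast_sub (by omega : s ≤ n)]; ring)
  refine subsingleton_of_iso g.symm ?_
  rw [Nat.add_sub_cancel]
  rcases Nat.lt_or_ge n (i + (n - s)) with h' | h'
  · haveI := (isCoh_Ft hF (a - 1 - ((n - s : ℕ) : ℤ))).1
    exact subsingleton_HH_of_lt _ h'
  · exact h (n - s) (by omega) h'

include hF in
/-- Regularity propagates. -/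
theorem propagate (m : ℤ) (h : ∀ i : ℕ, 1 ≤ i → i ≤ n → Subsingleton (Coh.HH _ (Ft F (m - i)) i))
    (i : ℕ) (r : ℤ) (hi : 1 ≤ i) (hr : m - i ≤ r) : Subsingleton (Coh.HH _ (Ft F r) i) := by
  suffices ∀ (d : ℕ) (i : ℕ), 1 ≤ i → Subsingleton (Coh.HH _ (Ft F (m - i + d)) i) by
    have h' := this (r - (m - i)).toNat i hi
    rwa [show m - (i : ℤ) + ((r - (m - i)).toNat : ℤ) = r by omega] at h'
  intro d
  induction d with
  | zero =>
    intro i hi
    rcases Nat.lt_or_ge n i with h' | h'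
    · haveI := (isCoh_Ft hF (m - i + (0 : ℕ))).1
      exact subsingleton_HH_of_lt _ h'
    · simpa using h i hi h'
  | succ d ih =>
    intro i hi
    refine subsingleton_Ft hF _ fun u _ _ => ?_
    have := ih (i + u) (by omega)
    rwa [show m - ((i + u : ℕ) : ℤ) + (d : ℤ) = m - (i : ℤ) + ((d + 1 : ℕ) : ℤ) - 1 - (u : ℤ) by
      push_cast; ring] at this

include hF in
/-- Global sections of `F(b + 1)` are combinations of coordinate multiples of sections of `F(b)`, `b ≥ m`:
the form of the statement along iterated twists. -/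
theorem exists_sum (m b : ℤ) (hb : m ≤ b)
    (h : ∀ i : ℕ, 1 ≤ i → i ≤ n → Subsingleton (Coh.HH _ (Ft F (m - i)) i)) :
    ∃ (N : (CohB1.ProjSpace n k).Modules) (_ : N ≅ Ft F b),
      ∀ z : Γ((tw (cc n k)).obj N, ⊤), ∃ s : Fin (n + 1) → Γ(N, ⊤),
        z = ∑ l : Fin (n + 1), (raise (cc n k) (coordSect n k l) N).app ⊤ (s l) := by
  let M := Ft F (b - n)
  obtain ⟨e⟩ := nonempty_twPow_Ft F n (b - n) b (by ring)
  refine ⟨(twPow (cc n k) n).obj M, e, fun z => ?_⟩
  have hv : ∀ s, s < n → Subsingleton (Coh.HH _ ((twPow (cc n k) s).obj M) (1 + (n - 1 - s))) := by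
    intro s hs
    obtain ⟨g⟩ := nonempty_twPow_Ft F s (b - n) (b - ((n - s : ℕ) : ℤ))
      (by push_cast [Nat.cast_sub hs.le]; ring)
    refine subsingleton_of_iso g.symm ?_
    rw [show 1 + (n - 1 - s) = n - s by omega]
    exact propagate hF m h (n - s) _ (by omega) (by omega)
  let α := twCommIso (cc n k) n M
  obtain ⟨s, hs⟩ := exists_sum_twPow covers M hv (α.hom.app ⊤ z)
  refine ⟨s, ?_⟩
  have hinj : Function.Injective (α.hom.app ⊤) := fun p q hpq => by
    have h1 := congrArg (α.inv.app ⊤) hpq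
    rw [← ConcreteCategory.comp_apply, ← ConcreteCategory.comp_apply, ← Scheme.Modules.Hom.comp_app,
      α.hom_inv_id] at h1
    exact h1
  apply hinj
  rw [hs, map_sum]
  refine Finset.sum_congr rfl fun l _ => ?_
  rw [← raise_twCommIso]
  rfl

include hF in
theorem spanned_eventually : ∃ t₀ : ℤ, ∀ t, t₀ ≤ t → Spanned (Ft F t) := by
  obtain ⟨hcpt, hamp⟩ := ((cc n k).isAmple_iff (Ample.ProjMap.pcocIso n k)).mp
    (Ample.isAmple_twistProjSpace_one n k)
  haveI := hF.1
  obtain ⟨t₀, ht₀⟩ := (cc n k).eventually_spanned F hamp fun p =>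
    ⟨⊤, trivial, fun W hW _ => QCoh.moduleFinite_of_isFiniteType F hF.2 hW⟩
  refine ⟨t₀, fun t ht => ?_⟩
  obtain ⟨e⟩ := (cc n k).nonempty_tensor_modTwist F t.toNat
  have h : Spanned ((cc n k).modTwist F t.toNat) := fun O μ x hx => ht₀ t.toNat (by omega) O μ x hx
  haveI : IsIso (Ample.ProjTwist.toTwist (CohB1.polyGrading n k)
      (fun i : ULift.{u} (Fin (n + 1)) => MvPolynomial.X i.down) (fun i => Ample.ProjMap.X_mem i.down)
      (cc n k).cover t.toNat) := Ample.ProjTwist.isIso_toTwist _ _ _ _ _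
  have h' := h.of_iso (e.symm ≪≫ Ample.LineData.tensorModMapIso (Iso.refl F)
    (asIso (Ample.ProjTwist.toTwist (CohB1.polyGrading n k) (fun i : ULift.{u} (Fin (n + 1)) => MvPolynomial.X i.down)
      (fun i => Ample.ProjMap.X_mem i.down) (cc n k).cover t.toNat)))
  rw [show ((t.toNat : ℕ) : ℤ) = t by omega] at h'
  exact h'

include hF in
/-- Regular modules are globally generated in their degree. -/
theorem spanned_of_regular (m : ℤ)
    (h : ∀ i : ℕ, 1 ≤ i → i ≤ n → Subsingleton (Coh.HH _ (Ft F (m - i)) i)) (b : ℤ) (hb : m ≤ b) :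
    Spanned (Ft F b) := by
  obtain ⟨t₀, ht₀⟩ := spanned_eventually hF
  suffices ∀ d : ℕ, ∀ b, m ≤ b → t₀ ≤ b + d → Spanned (Ft F b) from
    this (t₀ - b).toNat b hb (by omega)
  intro d
  induction d with
  | zero => intro b _ hd; exact ht₀ b (by simpa using hd)
  | succ d ih =>
    intro b hb hd
    obtain ⟨N, e, hN⟩ := exists_sum hF m b hb h
    obtain ⟨g⟩ := nonempty_tw_Ft F b
    have h1 : Spanned ((tw (cc n k)).obj N) :=
      (ih (b + 1) (by omega) (by push_cast at hd; omega)).of_iso (((tw (cc n k)).mapIso e ≪≫ g).symm)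
    exact (spanned_of_tw (cc n k) (fun l : Fin (n + 1) => coordSect n k l) N hN h1).of_iso e

end GrothLib.CMReg
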