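import Groth.Agent.Lib.CMReg.Twist
import Groth.Agent.Lib.OX.Exact
import Groth.Agent.Lib.Euler.Vanish
import Groth.Agent.Lib.Cohom.LinearLES
import Groth.Agent.Lib.Cohom.Exact
import Groth.Agent.Lib.QCoh.GenericPoint
import Groth.Agent.Lib.QCoh.ToSheaf
import Mathlib.Algebra.Homology.ShortComplex.Exact

/-!
# The Koszul resolution of a module by twists, and its consequences in cohomology
-/

universe u

set_option backward.isDefEq.respectTransparency false

open AlgebraicGeometry CategoryTheory CategoryTheory.Limits TopologicalSpace Opposite Abelian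
open GrothLib.InvExt (mres)
open GrothLib.Ample (Cocycle res)
open GrothLib.QCoh (stalkLin)

noncomputable section

namespace GrothLib.CMReg

variable {X : Scheme.{u}}

section HH

/-- Vanishing is invariant under isomorphism. -/
theorem subsingleton_of_iso {M N : X.Modules} (e : M ≅ N) {q : ℕ} (h : Subsingleton (Coh.HH X M q)) :
    Subsingleton (Coh.HH X N q) := by
  refine subsingleton_of_forall_eq 0 fun x => ?_
  have h1 : Sheaf.H.map ((QCoh.toAbFun X).map (e.inv ≫ e.hom)) q x = x := by
    rw [e.inv_hom_id, CategoryTheory.Functor.map_id]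
    exact Sheaf.H.map_id_apply (F := Coh.toAb N) (n := q) x
  rw [← h1, Functor.map_comp, Sheaf.H.map_comp_apply,
    Subsingleton.elim (α := Coh.HH X M q) (Sheaf.H.map ((QCoh.toAbFun X).map e.inv) q x) 0, map_zero]

variable {S : ShortComplex X.Modules} (hS : S.ShortExact)

include hS in
theorem subsingleton_X₂ {q : ℕ} (h₁ : Subsingleton (Coh.HH X S.X₁ q)) (h₃ : Subsingleton (Coh.HH X S.X₃ q)) :
    Subsingleton (Coh.HH X S.X₂ q) := by
  refine subsingleton_of_forall_eq 0 fun x => ?_
  obtain ⟨y, hy⟩ := Ext.covariant_sequence_exact₂ _ (QCoh.toAbFun_map_shortExact S hS)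
    (show Ext.{u} _ (S.map (QCoh.toAbFun X)).X₂ q from x) (Subsingleton.elim (α := Coh.HH X S.X₃ q) _ _)
  obtain rfl : y = 0 := Subsingleton.elim (α := Coh.HH X S.X₁ q) y 0
  rw [Ext.zero_comp] at hy
  exact hy.symm

include hS in
theorem subsingleton_X₃ {q : ℕ} (h₂ : Subsingleton (Coh.HH X S.X₂ q))
    (h₁ : Subsingleton (Coh.HH X S.X₁ (q + 1))) : Subsingleton (Coh.HH X S.X₃ q) := by
  refine subsingleton_of_forall_eq 0 fun x => ?_
  obtain ⟨y, hy⟩ := Ext.covariant_sequence_exact₃ _ (QCoh.toAbFun_map_shortExact S hS)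
    (show Ext.{u} _ (S.map (QCoh.toAbFun X)).X₃ q from x) rfl (Subsingleton.elim (α := Coh.HH X S.X₁ (q + 1)) _ _)
  obtain rfl : y = 0 := Subsingleton.elim (α := Coh.HH X S.X₂ q) y 0
  rw [Ext.zero_comp] at hy
  exact hy.symm

include hS in
theorem subsingleton_X₁_succ {q : ℕ} (h₃ : Subsingleton (Coh.HH X S.X₃ q))
    (h₂ : Subsingleton (Coh.HH X S.X₂ (q + 1))) : Subsingleton (Coh.HH X S.X₁ (q + 1)) := by
  refine subsingleton_of_forall_eq 0 fun x => ?_
  obtain ⟨y, hy⟩ := Ext.covariant_sequence_exact₁ _ (QCoh.toAbFun_map_shortExact S hS)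
    (show Ext.{u} _ (S.map (QCoh.toAbFun X)).X₁ (q + 1) from x) (Subsingleton.elim (α := Coh.HH X S.X₂ (q + 1)) _ _) rfl
  obtain rfl : y = 0 := Subsingleton.elim (α := Coh.HH X S.X₃ q) y 0
  rw [Ext.zero_comp] at hy
  exact hy.symm

include hS in
theorem surjective_app_top (h₁ : Subsingleton (Coh.HH X S.X₁ 1)) : Function.Surjective (S.g.app ⊤) :=
  Cohom.sections_surjective (QCoh.toAbFun_map_shortExact S hS) ⊤
    (@Equiv.subsingleton _ _ (Cohom.HEquivTop (Coh.toAb S.X₁) 1).symm.toEquiv h₁)

theorem subsingleton_biprod {M N : X.Modules} {q : ℕ} (hM : Subsingleton (Coh.HH X M q))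
    (hN : Subsingleton (Coh.HH X N q)) : Subsingleton (Coh.HH X (M ⊞ N) q) := by
  let S := ShortComplex.mk (biprod.inl : M ⟶ M ⊞ N) biprod.snd (by simp)
  have hS : S.ShortExact := (ShortComplex.Splitting.ofHasBinaryBiproduct M N).shortExact
  exact subsingleton_X₂ hS hM hN

end HH

variable (c : Cocycle X)

/-- Iterated twists. -/
def twPow : ℕ → (X.Modules ⥤ X.Modules)
  | 0 => 𝟭 _
  | t + 1 => tw c ⋙ twPow t

def twCommIso : ∀ (t : ℕ) (M : X.Modules), (tw c).obj ((twPow c t).obj M) ≅ (twPow c t).obj ((tw c).obj M)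
  | 0, _ => Iso.refl _
  | t + 1, M => twCommIso t ((tw c).obj M)

theorem raise_twCommIso (a : c.sect 1 ⊤) : ∀ (t : ℕ) (M : X.Modules),
    raise c a ((twPow c t).obj M) ≫ (twCommIso c t M).hom = (twPow c t).map (raise c a M) := by
  intro t
  induction t with
  | zero => exact fun M => Category.comp_id _
  | succ t ih =>
    intro M
    refine (ih ((tw c).obj M)).trans ?_
    exact congrArg (twPow c t).map (tw_map_raise c a M).symm

/-- The objectwise sum of two functors. -/
def sumFun (F G : X.Modules ⥤ X.Modules) : X.Modules ⥤ X.Modules where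
  obj M := F.obj M ⊞ G.obj M
  map f := biprod.map (F.map f) (G.map f)
  map_id M := biprod.hom_ext _ _ (by simp) (by simp)
  map_comp f g := biprod.hom_ext _ _ (by simp) (by simp)

/-- A functorial complex of modules. -/
structure FCx (X : Scheme.{u}) where
  /-- the terms -/
  K : ℕ → (X.Modules ⥤ X.Modules)
  /-- the differentials -/
  d : ∀ j, K j ⟶ K (j + 1)
  dd : ∀ (j : ℕ) (M : X.Modules), (d j).app M ≫ (d (j + 1)).app M = 0

variable {c} in
/-- The terms of the fibre of multiplication by a section. -/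
def stepK (c : Cocycle X) (P : FCx X) : ℕ → (X.Modules ⥤ X.Modules)
  | 0 => P.K 0
  | j + 1 => sumFun (P.K (j + 1)) (tw c ⋙ P.K j)

/-- The differential of the fibre of multiplication by a section. -/
def stepD (a : c.sect 1 ⊤) (P : FCx X) : ∀ j, stepK c P j ⟶ stepK c P (j + 1)
  | 0 =>
    { app := fun M => biprod.lift ((P.d 0).app M) ((P.K 0).map (raise c a M))
      naturality := fun M N f => by
        show (P.K 0).map f ≫ biprod.lift ((P.d 0).app N) ((P.K 0).map (raise c a N)) =
          biprod.lift ((P.d 0).app M) ((P.K 0).map (raise c a M)) ≫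
            biprod.map ((P.K 1).map f) ((P.K 0).map ((tw c).map f))
        refine biprod.hom_ext _ _ ?_ ?_
        · simp only [Category.assoc, biprod.lift_fst, biprod.map_fst, biprod.lift_fst_assoc]
          exact (P.d 0).naturality f
        · simp only [Category.assoc, biprod.lift_snd, biprod.map_snd, biprod.lift_snd_assoc,
            ← Functor.map_comp]
          rw [raise_naturality] }
  | j + 1 =>
    { app := fun M => biprod.lift (biprod.fst ≫ (P.d (j + 1)).app M)
        (biprod.fst ≫ (P.K (j + 1)).map (raise c a M) - biprod.snd ≫ (P.d j).app ((tw c).obj M))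
      naturality := fun M N f => by
        show biprod.map ((P.K (j + 1)).map f) ((P.K j).map ((tw c).map f)) ≫
            biprod.lift (biprod.fst ≫ (P.d (j + 1)).app N)
              (biprod.fst ≫ (P.K (j + 1)).map (raise c a N) - biprod.snd ≫ (P.d j).app ((tw c).obj N)) =
          biprod.lift (biprod.fst ≫ (P.d (j + 1)).app M)
              (biprod.fst ≫ (P.K (j + 1)).map (raise c a M) - biprod.snd ≫ (P.d j).app ((tw c).obj M)) ≫
            biprod.map ((P.K (j + 2)).map f) ((P.K (j + 1)).map ((tw c).map f))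
        refine biprod.hom_ext _ _ ?_ ?_
        · simp only [Category.assoc, biprod.lift_fst, biprod.map_fst, biprod.lift_fst_assoc,
            biprod.map_fst_assoc]
          exact congrArg (biprod.fst ≫ ·) ((P.d (j + 1)).naturality f)
        · simp only [Category.assoc, biprod.lift_snd, biprod.map_snd, biprod.lift_snd_assoc,
            Preadditive.comp_sub, Preadditive.sub_comp, biprod.map_fst_assoc, biprod.map_snd_assoc,
            ← Functor.map_comp]
          rw [raise_naturality, (P.d j).naturality] }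

/-- The fibre of multiplication by a section. -/
def step (a : c.sect 1 ⊤) (P : FCx X) : FCx X where
  K := stepK c P
  d := stepD c a P
  dd j M := by
    cases j with
    | zero =>
      show biprod.lift ((P.d 0).app M) ((P.K 0).map (raise c a M)) ≫
          biprod.lift (biprod.fst ≫ (P.d 1).app M)
            (biprod.fst ≫ (P.K 1).map (raise c a M) - biprod.snd ≫ (P.d 0).app ((tw c).obj M)) = 0
      refine biprod.hom_ext _ _ ?_ ?_
      · simp [P.dd]
      · simp only [Category.assoc, biprod.lift_snd, zero_comp, Preadditive.comp_sub,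
          biprod.lift_fst_assoc, biprod.lift_snd_assoc]
        exact sub_eq_zero.2 ((P.d 0).naturality (raise c a M)).symm
    | succ j =>
      show biprod.lift (biprod.fst ≫ (P.d (j + 1)).app M)
            (biprod.fst ≫ (P.K (j + 1)).map (raise c a M) - biprod.snd ≫ (P.d j).app ((tw c).obj M)) ≫
          biprod.lift (biprod.fst ≫ (P.d (j + 1 + 1)).app M)
            (biprod.fst ≫ (P.K (j + 1 + 1)).map (raise c a M) - biprod.snd ≫ (P.d (j + 1)).app ((tw c).obj M)) = 0
      refine biprod.hom_ext _ _ ?_ ?_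
      · simp [P.dd]
      · simp only [Category.assoc, biprod.lift_snd, zero_comp, Preadditive.comp_sub,
          Preadditive.sub_comp]
        erw [biprod.lift_fst_assoc, biprod.lift_snd_assoc]
        simp only [Preadditive.sub_comp, Category.assoc, P.dd, comp_zero, sub_zero]
        exact sub_eq_zero.2 (congrArg (biprod.fst ≫ ·) ((P.d (j + 1)).naturality (raise c a M)).symm)

/-- The constant complex concentrated in degree zero. -/
def base (X : Scheme.{u}) : FCx X where
  K
    | 0 => 𝟭 _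
    | _ + 1 => (Functor.const _).obj (⊤_ X.Modules)
  d _ := { app := fun _ => 0, naturality := fun _ _ _ => by simp }
  dd _ _ := zero_comp

/-- The Koszul resolution attached to the first `r` sections. -/
def kos (a : ℕ → c.sect 1 ⊤) : ℕ → FCx X
  | 0 => base X
  | r + 1 => step c (a r) (kos a r)

variable (a : ℕ → c.sect 1 ⊤)

theorem isZero_kos : ∀ (r j : ℕ), r < j → ∀ M, IsZero (((kos c a r).K j).obj M) := by
  intro r
  induction r with
  | zero =>
    intro j hj M
    obtain ⟨j, rfl⟩ := Nat.exists_eq_succ_of_ne_zero hj.ne'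
    exact (isZero_zero X.Modules).of_iso (terminalIsTerminal.uniqueUpToIso (isZero_zero X.Modules).isTerminal)
  | succ r ih =>
    intro j hj M
    obtain ⟨j, rfl⟩ := Nat.exists_eq_succ_of_ne_zero (by omega : j ≠ 0)
    show IsZero (((kos c a r).K (j + 1)).obj M ⊞ ((kos c a r).K j).obj ((tw c).obj M))
    exact (biprod_isZero_iff _ _).2 ⟨ih _ (by omega) _, ih _ (by omega) _⟩

theorem subsingleton_kos : ∀ (r j : ℕ) (M : X.Modules) (q : ℕ),
    Subsingleton (Coh.HH X ((twPow c j).obj M) q) → Subsingleton (Coh.HH X (((kos c a r).K j).obj M) q) := by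
  intro r
  induction r with
  | zero =>
    intro j M q h
    cases j with
    | zero => exact h
    | succ j => exact Cohom.subsingleton_HH_of_isZero (isZero_kos c a 0 (j + 1) j.succ_pos M) q
  | succ r ih =>
    intro j M q h
    cases j with
    | zero => exact ih 0 M q h
    | succ j => exact subsingleton_biprod (ih (j + 1) M q h) (ih j ((tw c).obj M) q h)

/-- The terms preserve bijectivity near a point. -/
theorem bijective_map_kos : ∀ (r j : ℕ) {M N : X.Modules} (f : M ⟶ N) (W : X.Opens),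
    IsoOn f W → IsoOn (((kos c a r).K j).map f) W := by
  intro r
  induction r with
  | zero =>
    intro j M N f W h
    cases j with
    | zero => exact h
    | succ j =>
      intro T _
      rw [show ((kos c a 0).K (j + 1)).map f = 𝟙 (⊤_ X.Modules) from rfl]
      exact Function.bijective_id
  | succ r ih =>
    intro j M N f W h
    cases j with
    | zero => exact ih 0 f W h
    | succ j =>
      let F := ((kos c a r).K (j + 1))
      let G := ((kos c a r).K j)
      intro T hT
      have h1 := ih (j + 1) f W h T hT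
      have h2 := ih j ((tw c).map f) W (isoOn_tw_map c h) T hT
      show Function.Bijective ((biprod.map (F.map f) (G.map ((tw c).map f))).app T)
      have hd : ∀ (P Q : X.Modules) (z : Γ(P ⊞ Q, T)),
          z = (biprod.inl : P ⟶ P ⊞ Q).app T ((biprod.fst : P ⊞ Q ⟶ P).app T z) +
            (biprod.inr : Q ⟶ P ⊞ Q).app T ((biprod.snd : P ⊞ Q ⟶ Q).app T z) := fun P Q z => by
        have e := congrArg (fun φ : P ⊞ Q ⟶ P ⊞ Q => φ.app T z) (biprod.total (X := P) (Y := Q))
        exact e.symm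
      constructor
      · intro z z' e
        rw [hd _ _ z, hd _ _ z']
        have e1 := congrArg ((biprod.fst : F.obj N ⊞ G.obj ((tw c).obj N) ⟶ _).app T) e
        have e2 := congrArg ((biprod.snd : F.obj N ⊞ G.obj ((tw c).obj N) ⟶ _).app T) e
        rw [← ConcreteCategory.comp_apply, ← ConcreteCategory.comp_apply, ← Scheme.Modules.Hom.comp_app,
          biprod.map_fst, Scheme.Modules.Hom.comp_app, ConcreteCategory.comp_apply,
          ConcreteCategory.comp_apply] at e1
        rw [← ConcreteCategory.comp_apply, ← ConcreteCategory.comp_apply, ← Scheme.Modules.Hom.comp_app,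
          biprod.map_snd, Scheme.Modules.Hom.comp_app, ConcreteCategory.comp_apply,
          ConcreteCategory.comp_apply] at e2
        rw [h1.1 e1, h2.1 e2]
      · intro w
        obtain ⟨u, hu⟩ := h1.2 ((biprod.fst : F.obj N ⊞ G.obj ((tw c).obj N) ⟶ _).app T w)
        obtain ⟨v, hv⟩ := h2.2 ((biprod.snd : F.obj N ⊞ G.obj ((tw c).obj N) ⟶ _).app T w)
        refine ⟨(biprod.inl : F.obj M ⟶ F.obj M ⊞ G.obj ((tw c).obj M)).app T u +
          (biprod.inr : G.obj ((tw c).obj M) ⟶ F.obj M ⊞ G.obj ((tw c).obj M)).app T v, ?_⟩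
        rw [map_add, ← ConcreteCategory.comp_apply, ← ConcreteCategory.comp_apply,
          ← Scheme.Modules.Hom.comp_app, ← Scheme.Modules.Hom.comp_app, biprod.inl_map, biprod.inr_map,
          Scheme.Modules.Hom.comp_app, Scheme.Modules.Hom.comp_app, ConcreteCategory.comp_apply,
          ConcreteCategory.comp_apply, hu, hv, ← hd _ _ w]

section Exact

variable (x : X)

theorem stalkLin_biprod (P Q : X.Modules) (z : (P ⊞ Q).presheaf.stalk x) :
    z = stalkLin (biprod.inl : P ⟶ P ⊞ Q) x (stalkLin (biprod.fst : P ⊞ Q ⟶ P) x z) +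
      stalkLin (biprod.inr : Q ⟶ P ⊞ Q) x (stalkLin (biprod.snd : P ⊞ Q ⟶ Q) x z) := by
  rw [← QCoh.stalkLin_comp, ← QCoh.stalkLin_comp]
  have h := congrArg (fun φ : P ⊞ Q ⟶ P ⊞ Q => ((OX.stalk x).map φ).hom z) (biprod.total (X := P) (Y := Q))
  simp only [Functor.map_add, CategoryTheory.Functor.map_id] at h
  exact h.symm

theorem stalkLin_ext {P Q : X.Modules} {z z' : (P ⊞ Q).presheaf.stalk x}
    (h1 : stalkLin (biprod.fst : P ⊞ Q ⟶ P) x z = stalkLin (biprod.fst : P ⊞ Q ⟶ P) x z')
    (h2 : stalkLin (biprod.snd : P ⊞ Q ⟶ Q) x z = stalkLin (biprod.snd : P ⊞ Q ⟶ Q) x z') : z = z' := by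
  rw [stalkLin_biprod x P Q z, stalkLin_biprod x P Q z', h1, h2]

theorem stalkLin_sub {M N : X.Modules} (f g : M ⟶ N) (z : M.presheaf.stalk x) :
    stalkLin (f - g) x z = stalkLin f x z - stalkLin g x z :=
  congrArg (fun φ => φ.hom z) (Functor.map_sub (OX.stalk x) (f := f) (g := g))

theorem stalkLin_zero {M N : X.Modules} (z : M.presheaf.stalk x) : stalkLin (0 : M ⟶ N) x z = 0 :=
  congrArg (fun φ => φ.hom z) ((OX.stalk x).map_zero M N)

/-- Exactness at a point. -/
def ExAt (P : FCx X) (M : X.Modules) : Prop :=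
  Function.Injective (stalkLin ((P.d 0).app M) x) ∧
    ∀ (j : ℕ) (z : ((P.K (j + 1)).obj M).presheaf.stalk x), stalkLin ((P.d (j + 1)).app M) x z = 0 →
      ∃ w, stalkLin ((P.d j).app M) x w = z

theorem stalkLin_pair {P Q : X.Modules} {Z : X.Modules} (f : Z ⟶ P) (g : Z ⟶ Q) (z : Z.presheaf.stalk x) :
    stalkLin (biprod.fst : P ⊞ Q ⟶ P) x (stalkLin (biprod.lift f g) x z) = stalkLin f x z ∧
      stalkLin (biprod.snd : P ⊞ Q ⟶ Q) x (stalkLin (biprod.lift f g) x z) = stalkLin g x z := by
  rw [← QCoh.stalkLin_comp, ← QCoh.stalkLin_comp, biprod.lift_fst, biprod.lift_snd]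
  exact ⟨rfl, rfl⟩

theorem stalkLin_pair' (P Q : X.Modules) (u : P.presheaf.stalk x) (v : Q.presheaf.stalk x) :
    ∃ z : (P ⊞ Q).presheaf.stalk x, stalkLin (biprod.fst : P ⊞ Q ⟶ P) x z = u ∧
      stalkLin (biprod.snd : P ⊞ Q ⟶ Q) x z = v := by
  refine ⟨stalkLin (biprod.inl : P ⟶ P ⊞ Q) x u + stalkLin (biprod.inr : Q ⟶ P ⊞ Q) x v, ?_, ?_⟩
  · rw [map_add, ← QCoh.stalkLin_comp, ← QCoh.stalkLin_comp, biprod.inl_fst, biprod.inr_fst, stalkLin_zero,
      add_zero]
    exact congrArg (fun φ => φ.hom u) ((OX.stalk x).map_id P)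
  · rw [map_add, ← QCoh.stalkLin_comp, ← QCoh.stalkLin_comp, biprod.inl_snd, biprod.inr_snd, stalkLin_zero,
      zero_add]
    exact congrArg (fun φ => φ.hom v) ((OX.stalk x).map_id Q)

theorem stalkLin_d_d (P : FCx X) (M : X.Modules) (j : ℕ) (z : ((P.K j).obj M).presheaf.stalk x) :
    stalkLin ((P.d (j + 1)).app M) x (stalkLin ((P.d j).app M) x z) = 0 := by
  rw [← QCoh.stalkLin_comp, P.dd, stalkLin_zero]

theorem stalkLin_natural (P : FCx X) {M N : X.Modules} (f : M ⟶ N) (j : ℕ) (z : ((P.K j).obj M).presheaf.stalk x) :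
    stalkLin ((P.K (j + 1)).map f) x (stalkLin ((P.d j).app M) x z) =
      stalkLin ((P.d j).app N) x (stalkLin ((P.K j).map f) x z) := by
  rw [← QCoh.stalkLin_comp, ← QCoh.stalkLin_comp, (P.d j).naturality]

theorem exAt_step (s : c.sect 1 ⊤) (P : FCx X)
    (h : (∀ M, ExAt x P M) ∨ ∀ (j : ℕ) (M : X.Modules), Function.Bijective (stalkLin ((P.K j).map (raise c s M)) x))
    (M : X.Modules) : ExAt x (step c s P) M := by
  let N := (tw c).obj M
  let φ : ∀ j, ((P.K j).obj M).presheaf.stalk x →ₗ[X.presheaf.stalk x] ((P.K j).obj N).presheaf.stalk x :=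
    fun j => stalkLin ((P.K j).map (raise c s M)) x
  have hd0 : ∀ z, stalkLin (biprod.fst : (P.K 1).obj M ⊞ (P.K 0).obj N ⟶ _) x
        (stalkLin ((stepD c s P 0).app M) x z) = stalkLin ((P.d 0).app M) x z ∧
      stalkLin (biprod.snd : (P.K 1).obj M ⊞ (P.K 0).obj N ⟶ _) x
        (stalkLin ((stepD c s P 0).app M) x z) = φ 0 z := fun z => stalkLin_pair x _ _ z
  have hd : ∀ j (z : ((P.K (j + 1)).obj M ⊞ (P.K j).obj N).presheaf.stalk x),
      stalkLin (biprod.fst : (P.K (j + 2)).obj M ⊞ (P.K (j + 1)).obj N ⟶ _) x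
        (stalkLin ((stepD c s P (j + 1)).app M) x z) =
          stalkLin ((P.d (j + 1)).app M) x (stalkLin (biprod.fst : (P.K (j + 1)).obj M ⊞ (P.K j).obj N ⟶ _) x z) ∧
      stalkLin (biprod.snd : (P.K (j + 2)).obj M ⊞ (P.K (j + 1)).obj N ⟶ _) x
        (stalkLin ((stepD c s P (j + 1)).app M) x z) =
          φ (j + 1) (stalkLin (biprod.fst : (P.K (j + 1)).obj M ⊞ (P.K j).obj N ⟶ _) x z) -
            stalkLin ((P.d j).app N) x (stalkLin (biprod.snd : (P.K (j + 1)).obj M ⊞ (P.K j).obj N ⟶ _) x z) := by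
    intro j z
    obtain ⟨e1, e2⟩ := stalkLin_pair x (biprod.fst ≫ (P.d (j + 1)).app M)
      (biprod.fst ≫ (P.K (j + 1)).map (raise c s M) - biprod.snd ≫ (P.d j).app N) z
    exact ⟨e1.trans (QCoh.stalkLin_comp _ _ x z), e2.trans (by
      rw [stalkLin_sub, QCoh.stalkLin_comp, QCoh.stalkLin_comp])⟩
  refine ⟨fun z z' e => ?_, fun j z hz => ?_⟩
  · rcases h with h | h
    · exact (h M).1 ((hd0 z).1.symm.trans ((congrArg _ e).trans (hd0 z').1))
    · exact (h 0 M).1 ((hd0 z).2.symm.trans ((congrArg _ e).trans (hd0 z').2))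
  · set u := stalkLin (biprod.fst : (P.K (j + 1)).obj M ⊞ (P.K j).obj N ⟶ _) x z with hu
    set v := stalkLin (biprod.snd : (P.K (j + 1)).obj M ⊞ (P.K j).obj N ⟶ _) x z with hv
    have hz1 : stalkLin ((P.d (j + 1)).app M) x u = 0 :=
      ((hd j z).1.symm.trans (congrArg _ hz)).trans (map_zero _)
    have hz2 : φ (j + 1) u = stalkLin ((P.d j).app N) x v :=
      sub_eq_zero.1 (((hd j z).2.symm.trans (congrArg _ hz)).trans (map_zero _))
    obtain ⟨p, hp⟩ : ∃ p, stalkLin ((P.d j).app M) x p = u := by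
      rcases h with h | h
      · exact (h M).2 j u hz1
      · obtain ⟨p, hp⟩ := (h j M).2 v
        refine ⟨p, (h (j + 1) M).1 ?_⟩
        show φ (j + 1) _ = φ (j + 1) u
        rw [hz2, ← hp]
        exact stalkLin_natural x P (raise c s M) j p
    have hker : stalkLin ((P.d j).app N) x (φ j p - v) = 0 := by
      rw [map_sub, ← hz2, ← hp, sub_eq_zero]
      exact (stalkLin_natural x P (raise c s M) j p).symm
    cases j with
    | zero =>
      obtain ⟨p₀, hp₀, hq⟩ : ∃ p₀, stalkLin ((P.d 0).app M) x p₀ = u ∧ φ 0 p₀ = v := by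
        rcases h with h | h
        · exact ⟨p, hp, sub_eq_zero.1 ((h N).1 (hker.trans (map_zero _).symm))⟩
        · obtain ⟨p', hp'⟩ := (h 0 M).2 v
          refine ⟨p', (h 1 M).1 ?_, hp'⟩
          show φ 1 _ = φ 1 u
          rw [hz2, ← hp']
          exact stalkLin_natural x P (raise c s M) 0 p'
      exact ⟨p₀, stalkLin_ext x ((hd0 p₀).1.trans hp₀) ((hd0 p₀).2.trans hq)⟩
    | succ i =>
      obtain ⟨p₀, hp₀, q, hq⟩ : ∃ p₀, stalkLin ((P.d (i + 1)).app M) x p₀ = u ∧
          ∃ q, φ (i + 1) p₀ - stalkLin ((P.d i).app N) x q = v := by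
        rcases h with h | h
        · obtain ⟨q, hq⟩ := (h N).2 i (φ (i + 1) p - v) hker
          exact ⟨p, hp, q, by rw [hq, sub_sub_cancel]⟩
        · obtain ⟨p', hp'⟩ := (h (i + 1) M).2 v
          refine ⟨p', (h (i + 2) M).1 ?_, 0, by rw [map_zero, sub_zero]; exact hp'⟩
          show φ (i + 2) _ = φ (i + 2) u
          rw [hz2, ← hp']
          exact stalkLin_natural x P (raise c s M) (i + 1) p'
      obtain ⟨w, hw1, hw2⟩ := stalkLin_pair' x ((P.K (i + 1)).obj M) ((P.K i).obj N) p₀ q
      refine ⟨w, stalkLin_ext x ?_ ?_⟩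
      · exact (hd i w).1.trans ((congrArg _ hw1).trans hp₀)
      · refine (hd i w).2.trans ?_
        rw [hw1, hw2]
        exact hq

theorem exAt_kos : ∀ r, (∃ l < r, x ∈ c.locus (a l)) → ∀ M, ExAt x (kos c a r) M := by
  intro r
  induction r with
  | zero => exact fun ⟨l, hl, _⟩ => absurd hl (Nat.not_lt_zero l)
  | succ r ih =>
    rintro ⟨l, hl, hx⟩
    refine exAt_step c x (a r) (kos c a r) ?_
    rcases Nat.lt_succ_iff_lt_or_eq.1 hl with hlt | rfl
    · exact Or.inl (ih ⟨l, hlt, hx⟩)
    · exact Or.inr fun j M => Euler.stalkLin_bijective_of_app_bijective _ hx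
        (bijective_map_kos c a l j _ _ (isoOn_raise c (a l) M))

end Exact

end GrothLib.CMReg
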