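import Groth.Agent.Lib.QCoh.SchSupport
import Groth.Agent.Lib.Euler.Basic
import Groth.Agent.Lib.Cohom.Compare
import Groth.Agent.Lib.CMReg.Koszul
import Groth.Agent.Lib.FittSheaf.Pullback

/-!
# Cohomology of modules with at most one-dimensional support
-/

universe u

set_option backward.isDefEq.respectTransparency false

open AlgebraicGeometry CategoryTheory CategoryTheory.Limits TopologicalSpace

noncomputable section

namespace GrothLib.CMReg

variable {X : Scheme.{u}} (k : Type u) [Field k] [X.Over (Spec (CommRingCat.of k))]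
  [IsProper (X ↘ Spec (CommRingCat.of k))]

include k in
theorem subsingleton_HH_of_support_dim_le_one {F : X.Modules} (hF : Coh.IsCoh F)
    (hd : topologicalKrullDim (CohB1.support F) ≤ 1) (i : ℕ) (hi : 2 ≤ i) :
    Subsingleton (Coh.HH X F i) := by
  haveI := hF.1
  let I := QCoh.annIdeal F hF.2
  let j := I.subschemeι
  letI : I.subscheme.Over (Spec (CommRingCat.of k)) := ⟨j ≫ X ↘ Spec (CommRingCat.of k)⟩
  haveI : IsProper (I.subscheme ↘ Spec (CommRingCat.of k)) :=
    inferInstanceAs (IsProper (j ≫ X ↘ Spec (CommRingCat.of k)))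
  have hr : Set.range j.base = CohB1.support F := by
    rw [Scheme.IdealSheafData.range_subschemeι, QCoh.coe_support_annIdeal]
  have hdZ : topologicalKrullDim I.subscheme ≤ 1 := by
    refine le_trans ?_ hd
    exact Topology.IsInducing.topologicalKrullDim_le
      (f := fun z => (⟨j.base z, hr ▸ Set.mem_range_self z⟩ : CohB1.support F))
      (j.isEmbedding.isInducing.codRestrict _)
  haveI := QCoh.isIso_unit_annIdeal F hF.2
  let G := (Scheme.Modules.pullback j).obj F
  haveI hG : G.IsQuasicoherent := FittSheaf.isQuasicoherent_pullback j F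
  haveI := Euler.subsingleton_HH_of_two_le k hdZ G i hi
  obtain ⟨q⟩ := Cohom.nonempty_HH_equiv_pushforward j G i
  haveI := q.symm.toEquiv.subsingleton
  exact subsingleton_of_iso (asIso ((Scheme.Modules.pullbackPushforwardAdjunction j).unit.app F)).symm this

end GrothLib.CMReg
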