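import Groth.Agent.Lib.CMReg.Linear
import Groth.Agent.Lib.CMReg.SupportOne

/-!
# Regularity in complexes with small homology
-/

universe u

set_option backward.isDefEq.respectTransparency false

open AlgebraicGeometry CategoryTheory CategoryTheory.Limits

noncomputable section

namespace GrothLib.CMReg

variable {n : ℕ} {k : Type u} [Field k]

/-- Regularity in all positive degrees. -/
def RegAll (M : (CohB1.ProjSpace n k).Modules) (m : ℤ) : Prop :=
  ∀ i : ℕ, 1 ≤ i → Subsingleton (Coh.HH _ (Ft M (m - i)) i)

variable (S : ShortComplex (CohB1.ProjSpace n k).Modules)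

theorem image_ι_comp : Abelian.image.ι S.f ≫ S.g = 0 := by
  rw [← cancel_epi (Abelian.factorThruImage S.f), ← Category.assoc, Abelian.image.fac, S.zero, comp_zero]

/-- Boundaries inside cycles. -/
abbrev imageToCycles' : Abelian.image S.f ⟶ S.cycles := S.liftCycles (Abelian.image.ι S.f) (image_ι_comp S)

theorem boundary_shortExact :
    (ShortComplex.mk (imageToCycles' S) S.homologyπ (by
      rw [← cancel_epi (Abelian.factorThruImage S.f), ← Category.assoc, comp_zero,
        show Abelian.factorThruImage S.f ≫ imageToCycles' S = S.toCycles by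
          rw [← cancel_mono S.iCycles, Category.assoc, S.liftCycles_i, Abelian.image.fac, S.toCycles_i],
        S.toCycles_comp_homologyπ])).ShortExact := by
  have hfac : Abelian.factorThruImage S.f ≫ imageToCycles' S = S.toCycles := by
    rw [← cancel_mono S.iCycles, Category.assoc, S.liftCycles_i, Abelian.image.fac, S.toCycles_i]
  haveI : Mono (imageToCycles' S) := by
    exact mono_of_mono_fac (S.liftCycles_i (Abelian.image.ι S.f) (image_ι_comp S))
  let a : ShortComplex.mk S.toCycles S.homologyπ S.toCycles_comp_homologyπ ⟶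
      ShortComplex.mk (imageToCycles' S) S.homologyπ (by
        rw [← cancel_epi (Abelian.factorThruImage S.f), ← Category.assoc, comp_zero, hfac,
          S.toCycles_comp_homologyπ]) :=
    { τ₁ := Abelian.factorThruImage S.f, τ₂ := 𝟙 _, τ₃ := 𝟙 _,
      comm₁₂ := hfac.trans (Category.comp_id _).symm, comm₂₃ := by simp }
  exact { exact := (ShortComplex.exact_iff_of_epi_of_isIso_of_mono a).1
            (ShortComplex.exact_of_g_is_cokernel _ S.homologyIsCokernel) }

theorem cycles_shortExact :
    (ShortComplex.mk S.iCycles (Abelian.factorThruImage S.g) (by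
      rw [← cancel_mono (Abelian.image.ι S.g), Category.assoc, Abelian.image.fac, S.iCycles_g, zero_comp])).ShortExact := by
  refine { exact := ShortComplex.exact_of_f_is_kernel _ ?_ }
  exact isKernelOfComp (Abelian.image.ι S.g) S.g S.cyclesIsKernel _ (Abelian.image.fac S.g)

theorem isCoh_homology (h₁ : Coh.IsCoh S.X₁) (h₂ : Coh.IsCoh S.X₂) (h₃ : Coh.IsCoh S.X₃) :
    Coh.IsCoh S.homology := by
  have hc : Coh.IsCoh S.cycles := QCoh.isCoh_of_iso S.cyclesIsoKernel.symm (QCoh.isCoh_kernel S.g h₂ h₃)
  exact QCoh.isCoh_of_iso ((cokernelIsCokernel S.toCycles).coconePointUniqueUpToIso S.homologyIsCokernel)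
    (QCoh.isCoh_cokernel S.toCycles h₁ hc)

variable {S}

/-- One step down a complex. -/
theorem regAll_image_step (h₁ : Coh.IsCoh S.X₁) (h₂ : Coh.IsCoh S.X₂) (h₃ : Coh.IsCoh S.X₃)
    (hH : topologicalKrullDim (CohB1.support S.homology) ≤ 1) {m : ℤ} (hreg : RegAll S.X₂ m)
    (hf : RegAll (Abelian.image S.f) (m + 1)) : RegAll (Abelian.image S.g) m := by
  intro i hi
  refine sub_X₃ (cycles_shortExact S) (hreg i hi) ?_
  refine sub_X₂ (boundary_shortExact S) ?_ ?_
  · have h := hf (i + 1) (by omega)
    rwa [show (m + 1 - ((i + 1 : ℕ) : ℤ)) = m - i by push_cast; ring] at h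
  · have hcoh := isCoh_homology S h₁ h₂ h₃
    have hsub : CohB1.support (Ft S.homology (m - i)) ⊆ CohB1.support S.homology :=
      support_tensorMod_subset (X := CohB1.ProjSpace n k) _ _ (isInvertible_twist _)
    exact subsingleton_HH_of_support_dim_le_one k (isCoh_Ft hcoh _)
      (le_trans (Topology.IsInducing.topologicalKrullDim_le (f := Set.inclusion hsub)
        (Topology.IsEmbedding.inclusion hsub).isInducing) hH) (i + 1) (by omega)

theorem subsingleton_Ft_of_isZero {M : (CohB1.ProjSpace n k).Modules} (h : IsZero M) (t : ℤ) (i : ℕ) :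
    Subsingleton (Coh.HH _ (Ft M t) i) :=
  Cohom.subsingleton_HH_of_isZero ((ftFun (n := n) (k := k) t).map_isZero h) i

/-- The images in a termwise regular complex with small homology are regular. -/
theorem regAll_image_of_complex (E : ChainComplex ((CohB1.ProjSpace n k).Modules) ℕ) (t : ℕ)
    (hbdd : ∀ s : ℕ, t < s → IsZero (E.X s)) (hcoh : ∀ s : ℕ, Coh.IsCoh (E.X s)) (d : ℤ)
    (hreg : ∀ s : ℕ, RegAll (E.X s) (d + s))
    (hsupp : ∀ i : ℕ, 0 < i → topologicalKrullDim (CohB1.support (E.homology i)) ≤ 1) :
    ∀ s, RegAll (Abelian.image (E.d (s + 1) s)) (d + s + 1) := by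
  suffices ∀ (q s : ℕ), t ≤ s + q → RegAll (Abelian.image (E.d (s + 1) s)) (d + s + 1) from
    fun s => this t s (by omega)
  intro q
  induction q with
  | zero =>
    intro s hs i _
    refine subsingleton_Ft_of_isZero ?_ _ _
    exact IsZero.of_epi (Abelian.factorThruImage (E.d (s + 1) s)) (hbdd _ (by omega))
  | succ q ih =>
    intro s hs
    let S := E.sc' (s + 2) (s + 1) s
    have hH : topologicalKrullDim (CohB1.support S.homology) ≤ 1 := by
      refine le_trans ?_ (hsupp (s + 1) (by omega))
      have e : E.homology (s + 1) ≅ S.homology := ShortComplex.homologyMapIso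
        (E.isoSc' (s + 2) (s + 1) s ((ComplexShape.down ℕ).prev_eq' rfl) ((ComplexShape.down ℕ).next_eq' rfl))
      exact le_of_eq (by rw [QCoh.support_eq_of_iso e])
    refine regAll_image_step (S := S) (hcoh _) (hcoh _) (hcoh _) hH ?_ ?_
    · have h := hreg (s + 1)
      rwa [Nat.cast_succ, ← add_assoc] at h
    · have h := ih (s + 1) (by omega)
      rwa [Nat.cast_succ, ← add_assoc] at h

end GrothLib.CMReg
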