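import Groth.Agent.Lib.CMReg.Sequences
import Groth.Agent.Lib.NegTwist.H0
import Groth.Agent.Lib.SerreVanish.Ample
import Groth.Agent.Lib.Euler.Basic

/-!
# Serre vanishing on projective space; extensions of a regular module by a twist
-/

universe u

set_option backward.isDefEq.respectTransparency false

open AlgebraicGeometry CategoryTheory CategoryTheory.Limits TopologicalSpace Opposite
open GrothLib.InvExt (mres)
open GrothLib.Cohom (hhMap hhDelta)
open GrothLib.Ample (Cocycle)

noncomputable section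

namespace GrothLib.CMReg

variable {n : ℕ} {k : Type u} [Field k]

theorem exists_serre_bound {M : (CohB1.ProjSpace n k).Modules} (hM : Coh.IsCoh M) :
    ∃ t₀ : ℤ, ∀ t, t₀ ≤ t → ∀ i, 1 ≤ i → Subsingleton (Coh.HH (CohB1.ProjSpace n k) (Ft M t) i) := by
  obtain ⟨n₀, hn₀⟩ := SerreVanish.exists_forall_subsingleton k (Ample.isAmple_twistProjSpace_one n k) hM
  refine ⟨n₀, fun t ht i hi => ?_⟩
  obtain ⟨a, rfl⟩ : ∃ a : ℕ, t = (a : ℤ) := ⟨t.toNat, by omega⟩
  obtain ⟨e⟩ := GrTilde.nonempty_twist_iso_tensorPow (𝒜 := CohB1.polyGrading n k) h1 a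
  exact subsingleton_of_iso (Ample.LineData.tensorModMapIso (Iso.refl M) e.symm) (hn₀ a (by omega) i hi)

theorem finiteDimensional_Ft {M : (CohB1.ProjSpace n k).Modules} (hM : Coh.IsCoh M) (t : ℤ) (i : ℕ) :
    FiniteDimensional k (Coh.HH (CohB1.ProjSpace n k) (Ft M t) i) :=
  Euler.finiteDimensional_HH k (isCoh_Ft hM t) i

/-- The dimension of `H¹` of a twist. -/
abbrev h1dim (M : (CohB1.ProjSpace n k).Modules) (t : ℤ) : ℕ :=
  Module.finrank k (Coh.HH (CohB1.ProjSpace n k) (Ft M t) 1)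

variable {F : (CohB1.ProjSpace n k).Modules}
  {ι : CohB1.tensorMod F (Twist.twistProjSpace n k (-1)) ⟶ F} [Mono ι]

variable (ι) in
/-- The defining sequence. -/
abbrev extSeq : ShortComplex (CohB1.ProjSpace n k).Modules :=
  ShortComplex.mk ι (cokernel.π ι) (cokernel.condition ι)

theorem extSeq_shortExact : (extSeq ι).ShortExact :=
  { exact := ShortComplex.exact_of_g_is_cokernel _ (cokernelIsCokernel ι) }

variable (hF : Coh.IsCoh F) {m : ℤ}
  (hG : ∀ i : ℕ, 1 ≤ i → i ≤ n → Subsingleton (Coh.HH (CohB1.ProjSpace n k) (Ft (cokernel ι) (m - i)) i))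

include hF

theorem isCoh_coker : Coh.IsCoh (cokernel ι) :=
  QCoh.isCoh_cokernel ι (isCoh_Ft hF (-1)) hF

include hG

theorem vanish_two_le (i : ℕ) (j : ℤ) (hi : 2 ≤ i) (hj : m - i ≤ j) :
    Subsingleton (Coh.HH (CohB1.ProjSpace n k) (Ft F j) i) := by
  obtain ⟨t₀, ht₀⟩ := exists_serre_bound hF
  suffices ∀ (d : ℕ) (j : ℤ), m - i ≤ j → t₀ ≤ j + d → Subsingleton (Coh.HH (CohB1.ProjSpace n k) (Ft F j) i) from
    this (t₀ - j).toNat j hj (by omega)
  intro d
  induction d with
  | zero => intro j _ h; exact ht₀ j (by omega) i (by omega)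
  | succ d ih =>
    intro j hj h
    obtain ⟨q, rfl⟩ : ∃ q, i = q + 1 := ⟨i - 1, by omega⟩
    have h3 := propagate (isCoh_coker hF) m hG q (j + 1) (by omega) (by push_cast at hj ⊢; omega)
    have h2 := ih (j + 1) (by omega) (by push_cast at h; omega)
    obtain ⟨g⟩ := nonempty_Ft_Ft F (-1) (j + 1) j (by ring)
    exact subsingleton_of_iso g (sub_X₁ extSeq_shortExact h3 h2)

theorem h1dim_le (j : ℤ) (hj : m - 1 ≤ j) : h1dim F j ≤ h1dim F (j - 1) := by
  obtain ⟨g⟩ := nonempty_Ft_Ft F (-1) j (j - 1) (by ring)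
  haveI : FiniteDimensional k (Coh.HH (CohB1.ProjSpace n k) ((extSeq ι).map (ftFun j)).X₁ 1) :=
    finiteDimensional_Ft (isCoh_Ft hF (-1)) j 1
  have hS := ft_shortExact extSeq_shortExact (S := extSeq ι) j
  haveI : Subsingleton (Coh.HH (CohB1.ProjSpace n k) ((extSeq ι).map (ftFun j)).X₃ 1) :=
    propagate (isCoh_coker hF) m hG 1 j le_rfl hj
  have hsurj : Function.Surjective (hhMap k ((extSeq ι).map (ftFun j)).f 1) := fun x =>
    ((Cohom.exact₂ (A := k) hS 1) x).1 (Subsingleton.elim _ _)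
  have hle := LinearMap.finrank_range_le (hhMap k ((extSeq ι).map (ftFun j)).f 1)
  rw [LinearMap.range_eq_top.2 hsurj, finrank_top] at hle
  exact hle.trans (le_of_eq (LinearEquiv.finrank_eq (Euler.hhEquiv (A := k) g 1)))

theorem h1dim_stable_step (j : ℤ) (hj : m ≤ j) (h : h1dim F (j - 1) = h1dim F j) :
    h1dim F j = h1dim F (j + 1) := by
  have hS := ft_shortExact extSeq_shortExact (S := extSeq ι) j
  set S := (extSeq ι).map (ftFun j) with hSdef
  obtain ⟨g⟩ := nonempty_Ft_Ft F (-1) j (j - 1) (by ring)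
  haveI : FiniteDimensional k (Coh.HH (CohB1.ProjSpace n k) S.X₁ 1) :=
    finiteDimensional_Ft (isCoh_Ft hF (-1)) j 1
  haveI : FiniteDimensional k (Coh.HH (CohB1.ProjSpace n k) S.X₂ 1) := finiteDimensional_Ft hF j 1
  haveI h3 : Subsingleton (Coh.HH (CohB1.ProjSpace n k) S.X₃ 1) :=
    propagate (isCoh_coker hF) m hG 1 j le_rfl (by omega)
  have hsurj : Function.Surjective (hhMap k S.f 1) := fun x =>
    ((Cohom.exact₂ (A := k) hS 1) x).1 (Subsingleton.elim _ _)
  have hdim : Module.finrank k (Coh.HH (CohB1.ProjSpace n k) S.X₁ 1) =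
      Module.finrank k (Coh.HH (CohB1.ProjSpace n k) S.X₂ 1) :=
    (LinearEquiv.finrank_eq (Euler.hhEquiv (A := k) g 1)).trans h
  have hinj : Function.Injective (hhMap k S.f 1) :=
    (LinearMap.injective_iff_surjective_of_finrank_eq_finrank hdim).2 hsurj
  -- surjectivity on global sections
  have hg0 : Function.Surjective (S.g.app ⊤) := by
    intro z
    obtain ⟨x, hx⟩ := (ProjCoh.H0top S.X₃).surjective z
    obtain ⟨y, hy⟩ := ((Cohom.exact₃ (A := k) hS 0) x).1
      (hinj (by rw [(Cohom.exact₁ (A := k) hS 0).apply_apply_eq_zero, map_zero]))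
    exact ⟨ProjCoh.H0top S.X₂ y, by rw [← hx, ← hy, NegTwist.H0top_hhMap]⟩
  -- and hence after twisting once more
  obtain ⟨N, e, hN⟩ := exists_sum (isCoh_coker hF) m j hj hG
  have hg1 : Function.Surjective ((SerreVanish.twistSeq (cc n k) 1 S).g.app ⊤) := by
    intro z
    obtain ⟨s, hs⟩ := hN (((tw (cc n k)).map e.inv).app ⊤ z)
    choose w hw using fun l => hg0 (e.hom.app ⊤ (s l))
    refine ⟨∑ l : Fin (n + 1), (raise (cc n k) (coordSect n k (l : ℕ)) S.X₂).app ⊤ (w l), ?_⟩
    have hz : z = ((tw (cc n k)).map e.hom).app ⊤ (((tw (cc n k)).map e.inv).app ⊤ z) := by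
      rw [← ConcreteCategory.comp_apply, ← Scheme.Modules.Hom.comp_app, ← Functor.map_comp, e.inv_hom_id,
        CategoryTheory.Functor.map_id]
      rfl
    rw [hz, hs, map_sum, map_sum]
    refine Finset.sum_congr rfl fun l _ => ?_
    show ((tw (cc n k)).map S.g).app ⊤ _ = _
    rw [← ConcreteCategory.comp_apply, ← ConcreteCategory.comp_apply, ← Scheme.Modules.Hom.comp_app,
      ← Scheme.Modules.Hom.comp_app, raise_naturality, raise_naturality, Scheme.Modules.Hom.comp_app,
      Scheme.Modules.Hom.comp_app, ConcreteCategory.comp_apply, ConcreteCategory.comp_apply, hw]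
    rfl
  have hS' := SerreVanish.twistSeq_shortExact (cc n k) 1 hS
  set S' := SerreVanish.twistSeq (cc n k) 1 S with hS'def
  obtain ⟨g3⟩ := nonempty_tw_Ft (cokernel ι) j
  haveI : Subsingleton (Coh.HH (CohB1.ProjSpace n k) S'.X₃ 1) :=
    subsingleton_of_iso g3.symm (propagate (isCoh_coker hF) m hG 1 (j + 1) le_rfl (by omega))
  have hsurj' : Function.Surjective (hhMap k S'.f 1) := fun x =>
    ((Cohom.exact₂ (A := k) hS' 1) x).1 (Subsingleton.elim _ _)
  have hinj' : Function.Injective (hhMap k S'.f 1) := by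
    refine (injective_iff_map_eq_zero _).2 fun x hx => ?_
    obtain ⟨y, rfl⟩ := ((Cohom.exact₁ (A := k) hS' 0) x).1 hx
    obtain ⟨w, hw⟩ := hg1 (ProjCoh.H0top S'.X₃ y)
    obtain ⟨y', rfl⟩ := (ProjCoh.H0top S'.X₂).surjective w
    rw [← NegTwist.H0top_hhMap (k := k)] at hw
    rw [← (ProjCoh.H0top S'.X₃).injective hw]
    exact (Cohom.exact₃ (A := k) hS' 0).apply_apply_eq_zero y'
  obtain ⟨g1⟩ := nonempty_tw_Ft F (j - 1)
  obtain ⟨g2⟩ := nonempty_tw_Ft F j
  have e1 := LinearEquiv.finrank_eq (Euler.hhEquiv (A := k) ((tw (cc n k)).mapIso g ≪≫ g1) 1)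
  have e2 := LinearEquiv.finrank_eq (Euler.hhEquiv (A := k) g2 1)
  have e3 := LinearEquiv.finrank_eq (LinearEquiv.ofBijective _ ⟨hinj', hsurj'⟩)
  rw [sub_add_cancel] at e1
  exact e1.symm.trans (e3.trans e2)

theorem h1dim_lt (j : ℤ) (hj : m ≤ j) (h0 : h1dim F (j - 1) ≠ 0) : h1dim F j < h1dim F (j - 1) := by
  refine lt_of_le_of_ne (h1dim_le hF hG j (by omega)) fun he => h0 ?_
  have hall : ∀ d : ℕ, h1dim F (j + d - 1) = h1dim F (j + d) ∧ h1dim F (j + d) = h1dim F (j - 1) := by
    intro d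
    induction d with
    | zero => simp [he]
    | succ d ih =>
      have h := h1dim_stable_step hF hG (j + d) (by omega) ih.1
      rw [show j + ((d + 1 : ℕ) : ℤ) = j + d + 1 by push_cast; ring, add_sub_cancel_right]
      exact ⟨h, h.symm.trans ih.2⟩
  obtain ⟨t₀, ht₀⟩ := exists_serre_bound hF
  haveI := ht₀ (j + (t₀ - j).toNat) (by omega) 1 le_rfl
  rw [← (hall (t₀ - j).toNat).2]
  exact Module.finrank_zero_of_subsingleton

theorem vanish_one (j : ℤ) (hj : m - 1 + (h1dim F (m - 1) : ℤ) ≤ j) :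
    Subsingleton (Coh.HH (CohB1.ProjSpace n k) (Ft F j) 1) := by
  have key : ∀ d : ℕ, h1dim F (m - 1 + d) = 0 ∨ h1dim F (m - 1 + d) + d ≤ h1dim F (m - 1) := by
    intro d
    induction d with
    | zero => exact Or.inr (by simp)
    | succ d ih =>
      have e : m - 1 + ((d + 1 : ℕ) : ℤ) - 1 = m - 1 + d := by push_cast; ring
      rcases ih with h | h
      · left
        have := h1dim_le hF hG (m - 1 + ((d + 1 : ℕ) : ℤ)) (by omega)
        rw [e] at this
        omega
      · by_cases h0 : h1dim F (m - 1 + d) = 0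
        · left
          have := h1dim_le hF hG (m - 1 + ((d + 1 : ℕ) : ℤ)) (by omega)
          rw [e] at this
          omega
        · right
          have := h1dim_lt hF hG (m - 1 + ((d + 1 : ℕ) : ℤ)) (by push_cast; omega) (by rwa [e])
          rw [e] at this
          omega
  have h := key (j - (m - 1)).toNat
  rw [show m - 1 + ((j - (m - 1)).toNat : ℤ) = j by omega] at h
  have h0 : h1dim F j = 0 := by omega
  haveI := finiteDimensional_Ft hF j 1
  exact Module.finrank_zero_iff.1 h0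

theorem regular_of_extension (i : ℕ) (hi : 1 ≤ i) :
    Subsingleton (Coh.HH (CohB1.ProjSpace n k) (Ft F (m + h1dim F (m - 1) - i)) i) := by
  rcases eq_or_lt_of_le hi with rfl | h
  · exact vanish_one hF hG _ (by omega)
  · exact vanish_two_le hF hG i _ h (by omega)

end GrothLib.CMReg
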