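import Groth.Agent.Lib.CMReg.ProjSpace
import Groth.Agent.Lib.CMReg.Sequences

/-!
# Multiplication of global sections of regular modules
-/

universe u

set_option backward.isDefEq.respectTransparency false

open AlgebraicGeometry CategoryTheory CategoryTheory.Limits TopologicalSpace Opposite MonoidalCategory
open GrothLib.InvExt (mres)
open GrothLib.Ample (Cocycle res)

noncomputable section

namespace GrothLib.CMReg

variable {X : Scheme.{u}} (c : Cocycle X) (M : X.Modules) (n : ℕ)

/-- The products of a section of `M` and a section of the cocycle bundle. -/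
def products : AddSubgroup (c.msect M n ⊤) :=
  AddSubgroup.closure (Set.range fun p : Γ(M, (⊤ : X.Opens)) × c.sect n ⊤ => c.smulSect p.1 p.2)

theorem modPre_bijective {W : X.Opens} (i : c.ι) (hW : W ≤ c.D i) :
    Function.Bijective ((c.modPre M n).app (op W)).hom := by
  let e : c.sect n W := c.base n i hW
  have hspan : ∀ z : TensorProduct Γ(X, W) Γ(M, W) (c.sect n W), ∃ μ : Γ(M, W), z = μ ⊗ₜ[Γ(X, W)] e := by
    intro z
    induction z with
    | zero => exact ⟨0, (TensorProduct.zero_tmul _ _).symm⟩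
    | tmul μ a =>
      refine ⟨res (le_inf le_rfl hW) (a.1 i) • μ, ?_⟩
      conv_lhs => rw [c.eq_smul_base i hW a]
      rw [TensorProduct.tmul_smul, TensorProduct.smul_tmul']
    | add z w hz hw =>
      obtain ⟨r, hr⟩ := hz
      obtain ⟨s, hs⟩ := hw
      exact ⟨r + s, by rw [hr, hs, TensorProduct.add_tmul]⟩
  have hmap : ∀ μ : Γ(M, W), (show c.msect M n W from ((c.modPre M n).app (op W)).hom (μ ⊗ₜ[Γ(X, W)] e)) =
      c.smulSect μ e := fun μ => rfl
  constructor
  · intro (z : TensorProduct Γ(X, W) Γ(M, W) (c.sect n W)) (w : TensorProduct Γ(X, W) Γ(M, W) (c.sect n W)) hzw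
    obtain ⟨μ, rfl⟩ := hspan z
    obtain ⟨ν, rfl⟩ := hspan w
    have h := congrArg (fun t : c.msect M n W => mres M (le_inf le_rfl hW) (t.1 i))
      ((hmap μ).symm.trans (hzw.trans (hmap ν)))
    simp only [Cocycle.smulSect_apply, e, Cocycle.base_self, one_smul, InvExt.mres_mres, InvExt.mres_self] at h
    rw [h]
  · intro (t : c.msect M n W)
    refine ⟨mres M (le_inf le_rfl hW) (t.1 i) ⊗ₜ[Γ(X, W)] e, ?_⟩
    refine (hmap _).trans (c.msect_ext_of_le hW ?_)
    rw [Cocycle.smulSect_apply, Cocycle.base_self, one_smul, InvExt.mres_mres, InvExt.mres_self]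

variable {c M n} {L : X.Modules} (ψ : L ≅ c.twist n)

/-- The product map into the twist. -/
def gPre (M : X.Modules) : CohB1.tensorPre M L ⟶ CohB1.toPMod (c.modTwist M n) :=
  (CohB1.toPMod M ◁ (show CohB1.toPMod L ⟶ CohB1.toPMod (c.twist n) from ψ.hom.val)) ≫ c.modPre M n

include ψ in
/-- If every twisted global section is a sum of products, the canonical map is surjective. -/
theorem surjective_toSheafify (h : products c M n = ⊤) :
    Function.Surjective ((toSheafify (Opens.grothendieckTopology X) (CohB1.tensorPre M L).presheaf).app (op ⊤)) := by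
  let g : (show X.PresheafOfModules from CohB1.tensorPre M L) ⟶
      (PresheafOfModules.restrictScalars (𝟙 X.ringCatSheaf.obj)).obj (c.modTwist M n).val := gPre ψ M
  haveI : IsIso (show CohB1.toPMod L ⟶ CohB1.toPMod (c.twist n) from ψ.hom.val) :=
    inferInstanceAs (IsIso ((SheafOfModules.forget _).map ψ.hom))
  have hbij : ∀ (i : c.ι) (W : X.Opens), W ≤ c.D i → Function.Bijective ((gPre ψ M).app (op W)).hom := by
    intro i W hW
    let a := CohB1.toPMod M ◁ (show CohB1.toPMod L ⟶ CohB1.toPMod (c.twist n) from ψ.hom.val)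
    haveI : IsIso (a.app (op W)) := inferInstanceAs (IsIso ((PresheafOfModules.evaluation _ (op W)).map a))
    exact (modPre_bijective c M n i hW).comp (ConcreteCategory.bijective_of_isIso (a.app (op W)))
  haveI : Presheaf.IsLocallyInjective (Opens.grothendieckTopology X)
      ((PresheafOfModules.toPresheaf _).map g) :=
    ⟨fun {U} z w e p hp => by
      obtain ⟨i, hi⟩ := c.exists_mem p
      refine ⟨U.unop ⊓ c.D i, homOfLE inf_le_left, ?_, hp, hi⟩
      refine (hbij i _ inf_le_right).1 ?_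
      have h1 := PresheafOfModules.naturality_apply (gPre ψ M) (homOfLE (inf_le_left : U.unop ⊓ c.D i ≤ U.unop)).op z
      have h2 := PresheafOfModules.naturality_apply (gPre ψ M) (homOfLE (inf_le_left : U.unop ⊓ c.D i ≤ U.unop)).op w
      exact h1.trans ((congrArg _ e).trans h2.symm)⟩
  haveI : Presheaf.IsLocallySurjective (Opens.grothendieckTopology X)
      ((PresheafOfModules.toPresheaf _).map g) :=
    ⟨fun {U} t p hp => by
      obtain ⟨i, hi⟩ := c.exists_mem p
      obtain ⟨z, hz⟩ := (hbij i (U ⊓ c.D i) inf_le_right).2 (mres (c.modTwist M n) (inf_le_left : U ⊓ c.D i ≤ U) t)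
      exact ⟨U ⊓ c.D i, homOfLE inf_le_left, ⟨z, hz⟩, hp, hi⟩⟩
  haveI := Ample.isIso_sheafify_desc _ _ g
  let Θ := (PresheafOfModules.sheafificationHomEquiv.{u} (𝟙 X.ringCatSheaf.obj)
    (P := show X.PresheafOfModules from CohB1.tensorPre M L) (F := c.modTwist M n)).symm g
  have hΘ : CategoryTheory.toSheafify (Opens.grothendieckTopology X) (CohB1.tensorPre M L).presheaf ≫
      (PresheafOfModules.toPresheaf _).map Θ.val = (PresheafOfModules.toPresheaf _).map g :=
    (PresheafOfModules.toPresheaf_map_sheafificationHomEquiv_def (𝟙 X.ringCatSheaf.obj) Θ).symm.trans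
      (congrArg _ (Equiv.apply_symm_apply _ _))
  intro z
  have hprod : ∀ w ∈ products c M n, ∃ y, (gPre ψ M).app (op ⊤) y = (show (c.modTwist M n).val.obj (op ⊤) from w) := by
    intro w hw
    induction hw using AddSubgroup.closure_induction with
    | mem x hx =>
      obtain ⟨⟨μ, a⟩, rfl⟩ := hx
      refine ⟨μ ⊗ₜ[Γ(X, ⊤)] (show Γ(L, ⊤) from ψ.inv.app ⊤ a), ?_⟩
      show c.smulSect μ (show c.sect n ⊤ from ψ.hom.app ⊤ (ψ.inv.app ⊤ a)) = _
      rw [← ConcreteCategory.comp_apply, ← Scheme.Modules.Hom.comp_app, ψ.inv_hom_id]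
      rfl
    | zero => exact ⟨0, map_zero _⟩
    | add x y _ _ hx hy =>
      obtain ⟨a, ha⟩ := hx
      obtain ⟨b, hb⟩ := hy
      exact ⟨a + b, by rw [map_add, ha, hb]⟩
    | neg x _ hx =>
      obtain ⟨a, ha⟩ := hx
      exact ⟨-a, by rw [map_neg, ha]⟩
  let Θ' : CohB1.tensorMod M L ⟶ c.modTwist M n := Θ
  haveI : IsIso Θ' := ‹IsIso _›
  obtain ⟨y, hy⟩ := hprod (Θ'.app ⊤ z) (h ▸ AddSubgroup.mem_top _)
  refine ⟨y, (ConcreteCategory.bijective_of_isIso (Θ'.app ⊤)).1 ?_⟩
  exact (ConcreteCategory.congr_hom (NatTrans.congr_app hΘ (op ⊤)) y).trans hy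

/-- Products of sections of the cocycle bundle. -/
def sectMul (c : Cocycle X) {n m : ℕ} {V : X.Opens} (a : c.sect n V) (b : c.sect m V) : c.sect (n + m) V :=
  ⟨fun i => a.1 i * b.1 i, fun i j W hi hj => by
    simp only [map_mul, c.sect_spec a i j hi hj, c.sect_spec b i j hi hj, pow_add]
    ring⟩

theorem products_zero (c : Cocycle X) (M : X.Modules) : products c M 0 = ⊤ := by
  refine top_le_iff.1 fun w _ => ?_
  obtain ⟨μ, hμ, -⟩ := TopCat.Sheaf.existsUnique_gluing' ⟨M.presheaf, M.isSheaf⟩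
    (fun i => (⊤ : X.Opens) ⊓ c.D i) ⊤ (fun i => homOfLE le_top) (c.iSup_inf_D ⊤) w.1 fun i j => by
      refine (c.msect_spec w i j (W := (⊤ ⊓ c.D i) ⊓ (⊤ ⊓ c.D j)) inf_le_left inf_le_right).trans ?_
      rw [pow_zero, one_smul]
      rfl
  let one : c.sect 0 ⊤ := ⟨fun _ => 1, fun i j W hi hj => by simp⟩
  refine AddSubgroup.subset_closure ⟨((show Γ(M, ⊤) from μ), one), c.msect_ext fun i => ?_⟩
  show (1 : Γ(X, ⊤ ⊓ c.D i)) • mres M _ _ = _
  rw [one_smul]
  exact hμ i

/-- One more multiplication, given generation after one twist. -/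
theorem products_succ (c : Cocycle X) (M : X.Modules) (n : ℕ) (h : products c M n = ⊤) {T : Type*} [Fintype T]
    (a : T → c.sect 1 ⊤)
    (hs : ∀ z : Γ((tw c).obj (c.modTwist M n), ⊤), ∃ s : T → Γ(c.modTwist M n, ⊤),
      z = ∑ l, (raise c (a l) (c.modTwist M n)).app ⊤ (s l)) :
    products c M (n + 1) = ⊤ := by
  refine top_le_iff.1 fun w _ => ?_
  let t : c.msect (c.modTwist M n) 1 ⊤ :=
    ⟨fun i => c.mbase n i inf_le_right (w.1 i), fun i j W hi hj => by
      refine c.msect_ext_of_le (hi.trans inf_le_right) (i := i) ?_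
      show mres M _ ((c.mbase n i inf_le_right (w.1 i)).1 i) =
        res _ (c.G i j _ _ ^ 1) • mres M _ ((c.mbase n j inf_le_right (w.1 j)).1 i)
      rw [c.mbase_self]
      show _ = _ • mres M _ (c.G i j _ _ ^ n • mres M _ (w.1 j))
      simp only [InvExt.mres_mres, Ample.mres_smul', map_pow, Cocycle.res_G, smul_smul, ← pow_add]
      have hw := c.msect_spec w i j (W := W ⊓ c.D i) (inf_le_left.trans hi) (inf_le_left.trans hj)
      exact hw.trans (congrArg (fun p => c.G i j _ _ ^ p • _) (add_comm n 1))⟩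
  obtain ⟨s, hs⟩ := hs (show Γ((tw c).obj (c.modTwist M n), ⊤) from t)
  -- the diagonal component
  let κ : c.msect (c.modTwist M n) 1 ⊤ →+ ∀ i, Γ(M, (⊤ : X.Opens) ⊓ c.D i) :=
    { toFun := fun u i => mres M (le_inf le_rfl inf_le_right)
        ((show c.msect M n ((⊤ : X.Opens) ⊓ c.D i) from u.1 i).1 i)
      map_zero' := funext fun i => map_zero _
      map_add' := fun u v => funext fun i => map_add _ _ _ }
  have hw : κ t = w.1 := funext fun i => by
    show mres M _ ((c.mbase n i inf_le_right (w.1 i)).1 i) = _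
    rw [c.mbase_self, InvExt.mres_mres, InvExt.mres_self]
  have key : ∀ l, ∀ σ ∈ products c M n, κ ((raise c (a l) (c.modTwist M n)).app ⊤ σ) ∈
      (products c M (n + 1)).map (AddSubgroup.subtype _) := by
    intro l σ hσ
    induction hσ using AddSubgroup.closure_induction with
    | mem x hx =>
      obtain ⟨⟨μ, b⟩, rfl⟩ := hx
      refine ⟨c.smulSect μ (sectMul c b (a l)), AddSubgroup.subset_closure ⟨(μ, sectMul c b (a l)), rfl⟩, funext fun i => ?_⟩
      have hc : κ ((raise c (a l) (c.modTwist M n)).app ⊤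
            (show Γ(c.modTwist M n, ⊤) from c.smulSect μ b)) i =
          mres M (le_inf le_rfl inf_le_right : (⊤ : X.Opens) ⊓ c.D i ≤ ⊤ ⊓ c.D i ⊓ c.D i)
            ((res (le_rfl : (⊤ : X.Opens) ⊓ c.D i ≤ ⊤ ⊓ c.D i) ((a l).1 i) •
              c.msectRes (inf_le_left : (⊤ : X.Opens) ⊓ c.D i ≤ ⊤) (c.smulSect μ b)).1 i) := rfl
      refine Eq.trans ?_ hc.symm
      rw [c.msmul_apply, c.msectRes_apply, Cocycle.smulSect_apply]
      show (b.1 i * (a l).1 i) • mres M (inf_le_left : (⊤ : X.Opens) ⊓ c.D i ≤ ⊤) μ = _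
      simp only [Ample.mres_smul', InvExt.mres_mres, map_mul, Ample.res_res, Ample.res_self, smul_smul]
      rw [mul_comm]
    | zero => rw [map_zero, map_zero]; exact AddSubgroup.zero_mem _
    | add x y _ _ hx hy =>
      rw [show (raise c (a l) (c.modTwist M n)).app ⊤ (x + y) = _ from map_add _ _ _, map_add]
      exact AddSubgroup.add_mem _ hx hy
    | neg x _ hx =>
      rw [show (raise c (a l) (c.modTwist M n)).app ⊤ (-x) = _ from map_neg _ _, map_neg]
      exact AddSubgroup.neg_mem _ hx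
  have hmem : w.1 ∈ (products c M (n + 1)).map (AddSubgroup.subtype _) := by
    rw [← hw, show t = _ from hs, map_sum]
    exact AddSubgroup.sum_mem _ fun l _ => key l _ (h ▸ AddSubgroup.mem_top _)
  obtain ⟨w', hw', e⟩ := hmem
  exact Subtype.ext e ▸ hw'

section ProjSpace

variable {n : ℕ} {k : Type u} [Field k]

/-- The twist of the standard cocycle is the twisting sheaf. -/
theorem nonempty_twist_iso (e : ℕ) :
    Nonempty (Twist.twistProjSpace n k (e : ℤ) ≅ (cc n k).twist e) := by
  haveI : IsIso (Ample.ProjTwist.toTwist (CohB1.polyGrading n k)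
      (fun i : ULift.{u} (Fin (n + 1)) => MvPolynomial.X i.down) (fun i => Ample.ProjMap.X_mem i.down)
      (cc n k).cover e) := Ample.ProjTwist.isIso_toTwist _ _ _ _ _
  exact ⟨(asIso (Ample.ProjTwist.toTwist (CohB1.polyGrading n k)
    (fun i : ULift.{u} (Fin (n + 1)) => MvPolynomial.X i.down) (fun i => Ample.ProjMap.X_mem i.down)
    (cc n k).cover e)).symm⟩

theorem exists_sum_of_iso {F : (CohB1.ProjSpace n k).Modules} (hF : Coh.IsCoh F) (m b : ℤ) (hb : m ≤ b)
    (h : ∀ i : ℕ, 1 ≤ i → i ≤ n → Subsingleton (Coh.HH _ (Ft F (m - i)) i))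
    {N : (CohB1.ProjSpace n k).Modules} (eN : N ≅ Ft F b) (z : Γ((tw (cc n k)).obj N, ⊤)) :
    ∃ s : Fin (n + 1) → Γ(N, ⊤),
      z = ∑ l : Fin (n + 1), (raise (cc n k) (coordSect n k l) N).app ⊤ (s l) := by
  obtain ⟨N', e', hN'⟩ := exists_sum hF m b hb h
  let α : N ≅ N' := eN ≪≫ e'.symm
  obtain ⟨s, hs⟩ := hN' (((tw (cc n k)).map α.hom).app ⊤ z)
  refine ⟨fun l => α.inv.app ⊤ (s l), ?_⟩
  have hz : z = ((tw (cc n k)).map α.inv).app ⊤ (((tw (cc n k)).map α.hom).app ⊤ z) := by
    rw [← ConcreteCategory.comp_apply, ← Scheme.Modules.Hom.comp_app, ← Functor.map_comp, α.hom_inv_id,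
      CategoryTheory.Functor.map_id]
    rfl
  rw [hz, hs, map_sum]
  refine Finset.sum_congr rfl fun l _ => ?_
  rw [← ConcreteCategory.comp_apply, ← ConcreteCategory.comp_apply, ← Scheme.Modules.Hom.comp_app,
    ← Scheme.Modules.Hom.comp_app, raise_naturality]

/-- Sections of high twists of a regular module are generated by those of the lowest one. -/
theorem products_of_regular {F : (CohB1.ProjSpace n k).Modules} (hF : Coh.IsCoh F) (m d : ℤ) (hd : m ≤ d)
    (h : ∀ i : ℕ, 1 ≤ i → i ≤ n → Subsingleton (Coh.HH _ (Ft F (m - i)) i)) :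
    ∀ e : ℕ, products (cc n k) (Ft F d) e = ⊤ := by
  intro e
  induction e with
  | zero => exact products_zero _ _
  | succ e ih =>
    obtain ⟨q⟩ := (cc n k).nonempty_tensor_modTwist (Ft F d) e
    obtain ⟨t⟩ := nonempty_twist_iso (n := n) (k := k) e
    obtain ⟨g⟩ := nonempty_Ft_Ft F d e (d + e) rfl
    exact products_succ _ _ e ih (fun l : Fin (n + 1) => coordSect n k l)
      (exists_sum_of_iso hF m (d + e) (by omega) h
        (q.symm ≪≫ Ample.LineData.tensorModMapIso (Iso.refl _) t.symm ≪≫ g))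

end ProjSpace

end GrothLib.CMReg
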