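import Groth.Agent.Lib.CMReg.HilbDegree
import Groth.Agent.Lib.CMReg.Mult
import Groth.Agent.Lib.CMReg.Extension
import Groth.Agent.Lib.NegTwist.H0
import Groth.Agent.Lib.HodgeIndex.Vanish
import Groth.Agent.Lib.NegTwist.Avoid
import Groth.Agent.Lib.NegTwist.Basic
import Groth.Agent.Lib.WeakAss.Basic
import Mathlib.Analysis.Polynomial.Basic

/-!
# Growth of the cohomology of negative twists, and nonvanishing in the dimension of the support
-/

universe u

set_option backward.isDefEq.respectTransparency false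

open AlgebraicGeometry CategoryTheory CategoryTheory.Limits TopologicalSpace Opposite
open GrothLib.Cohom (hhMap hhDelta)

noncomputable section

namespace GrothLib.CMReg

theorem finrank_le_of_exact {k : Type*} [Field k] {M N P : Type*} [AddCommGroup M] [AddCommGroup N]
    [AddCommGroup P] [Module k M] [Module k N] [Module k P] [FiniteDimensional k M] [FiniteDimensional k N]
    [FiniteDimensional k P] {f : M →ₗ[k] N} {g : N →ₗ[k] P} (h : Function.Exact f g) :
    Module.finrank k N ≤ Module.finrank k M + Module.finrank k P := by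
  rw [← LinearMap.finrank_range_add_finrank_ker g, LinearMap.exact_iff.1 h, add_comm]
  exact Nat.add_le_add (LinearMap.finrank_range_le f) (Submodule.finrank_le _)

/-- A map which is bijective at stalks at the weakly associated points is a monomorphism. -/
theorem mono_of_stalk_injective_weakAss {X : Scheme.{u}} {M N : X.Modules} [M.IsQuasicoherent] (f : M ⟶ N)
    (h : ∀ x, Curv2.IsWeakAssPoint M x → Function.Injective (QCoh.stalkLin f x)) : Mono f := by
  refine QCoh.mono_of_app_injective _ fun V => (injective_iff_map_eq_zero _).2 fun b hb => ?_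
  refine WeakAss.eq_zero_of_germ _ fun x hx hw => h x hw ?_
  rw [QCoh.stalkLin_germ, hb, map_zero, map_zero]

theorem exists_mono_twist {X : Scheme.{u}} [IsNoetherian X] (c : Ample.Cocycle X) (hc : c.IsAmp)
    {F : X.Modules} (hF : Coh.IsCoh F) :
    ∃ (m : ℕ) (f : F ⟶ CohB1.tensorMod F (c.twist m)), 0 < m ∧ Mono f := by
  haveI := hF.1
  obtain ⟨m, a, hm, ha⟩ := NegTwist.exists_sect_finite c hc (NegTwist.finite_weakAss hF)
  have hτ : Kodaira.IsoOn (c.locus a) (c.hom a) :=
    (NatIso.isIso_map_iff (Scheme.Modules.restrictFunctorIsoPullback (c.locus a).ι) (c.hom a)).1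
      (c.isIso_restrict_hom a le_rfl)
  let f : F ⟶ CohB1.tensorMod F (c.twist m) :=
    (Euler.tFUnitIso F).inv ≫ ((DCoh.tensorBi (X := X)).obj F).map (c.hom a)
  have hf : Kodaira.IsoOn (c.locus a) f := (Kodaira.isoOn_of_iso (c.locus a) _).comp (hτ.tensor_left F)
  exact ⟨m, f, hm, mono_of_stalk_injective_weakAss f fun x hx => (hf.stalk_bijective (ha x hx)).1⟩

variable {n : ℕ} {k : Type u} [Field k]

theorem exists_mono_Ft {F : (CohB1.ProjSpace n k).Modules} (hF : Coh.IsCoh F) :
    ∃ (m : ℕ) (f : F ⟶ Ft F m), 0 < m ∧ Mono f := by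
  obtain ⟨hcpt, hamp⟩ := ((cc n k).isAmple_iff (Ample.ProjMap.pcocIso n k)).mp
    (Ample.isAmple_twistProjSpace_one n k)
  obtain ⟨m, f, hm, hf⟩ := exists_mono_twist (X := CohB1.ProjSpace n k) (cc n k) hamp hF
  obtain ⟨e⟩ := nonempty_twist_iso (n := n) (k := k) m
  exact ⟨m, f ≫ (Ample.LineData.tensorModMapIso (Iso.refl F) e.symm).hom, hm, mono_comp _ _⟩

/-- `h^i(F(-p))`. -/
abbrev hdim (F : (CohB1.ProjSpace n k).Modules) (p : ℕ) (i : ℕ) : ℕ :=
  Module.finrank k (Coh.HH (CohB1.ProjSpace n k) (Ft F (-(p : ℤ))) i)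

theorem exists_neg_step {F : (CohB1.ProjSpace n k).Modules} (hF : Coh.IsCoh F) :
    ∃ (m : ℕ) (Q : (CohB1.ProjSpace n k).Modules), 0 < m ∧ Coh.IsCoh Q ∧
      (∀ p, hdim F (p + m) 0 ≤ hdim F p 0) ∧
      ∀ p i, hdim F (p + m) (i + 1) ≤ hdim Q (p + m) i + hdim F p (i + 1) := by
  obtain ⟨m, f, hm, hf⟩ := exists_mono_Ft hF
  have hS0 : (ShortComplex.mk f (cokernel.π f) (cokernel.condition f)).ShortExact :=
    { exact := ShortComplex.exact_of_g_is_cokernel _ (cokernelIsCokernel f) }
  refine ⟨m, cokernel f, hm, QCoh.isCoh_cokernel f hF (isCoh_Ft hF m), fun p => ?_, fun p i => ?_⟩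
  all_goals
    have hS := ft_shortExact hS0 (-((p + m : ℕ) : ℤ))
    set S := (ShortComplex.mk f (cokernel.π f) (cokernel.condition f)).map (ftFun (-((p + m : ℕ) : ℤ))) with hSdef
    obtain ⟨g⟩ := nonempty_Ft_Ft F m (-((p + m : ℕ) : ℤ)) (-(p : ℤ)) (by push_cast; ring)
    have e2 : ∀ j, Module.finrank k (Coh.HH (CohB1.ProjSpace n k) S.X₂ j) = hdim F p j :=
      fun j => LinearEquiv.finrank_eq (Euler.hhEquiv (A := k) g j)
    haveI h1 : ∀ j, FiniteDimensional k (Coh.HH (CohB1.ProjSpace n k) S.X₁ j) := fun j =>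
      finiteDimensional_Ft hF _ j
    haveI h2 : ∀ j, FiniteDimensional k (Coh.HH (CohB1.ProjSpace n k) S.X₂ j) := fun j =>
      finiteDimensional_Ft (isCoh_Ft hF m) _ j
    haveI h3 : ∀ j, FiniteDimensional k (Coh.HH (CohB1.ProjSpace n k) S.X₃ j) := fun j =>
      finiteDimensional_Ft (QCoh.isCoh_cokernel f hF (isCoh_Ft hF m)) _ j
  · haveI := hS.mono_f
    exact (LinearMap.finrank_le_finrank_of_injective (NegTwist.injective_hhMap_zero k S.f)).trans_eq (e2 0)
  · exact (finrank_le_of_exact (Cohom.exact₁ (A := k) hS i)).trans_eq (congrArg _ (e2 (i + 1)))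

/-- `h^i(F(-p))` grows at most like `p^i`. -/
theorem exists_bound : ∀ (i : ℕ) (F : (CohB1.ProjSpace n k).Modules), Coh.IsCoh F →
    ∃ C : ℕ, ∀ p, hdim F p i ≤ C * (p + 1) ^ i := by
  intro i
  induction i with
  | zero =>
    intro F hF
    obtain ⟨m, Q, hm, -, h0, -⟩ := exists_neg_step hF
    refine ⟨∑ p ∈ Finset.range m, hdim F p 0, fun p => ?_⟩
    rw [pow_zero, mul_one]
    induction p using Nat.strong_induction_on with
    | _ p ih =>
      rcases lt_or_ge p m with h | h
      · exact Finset.single_le_sum (f := fun p => hdim F p 0) (fun _ _ => Nat.zero_le _) (Finset.mem_range.2 h)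
      · obtain ⟨q, rfl⟩ : ∃ q, p = q + m := ⟨p - m, by omega⟩
        exact (h0 q).trans (ih q (by omega))
  | succ i ih =>
    intro F hF
    obtain ⟨m, Q, hm, hQ, -, h1⟩ := exists_neg_step hF
    obtain ⟨C, hC⟩ := ih Q hQ
    refine ⟨(∑ p ∈ Finset.range m, hdim F p (i + 1)) + C, fun p => ?_⟩
    induction p using Nat.strong_induction_on with
    | _ p ihp =>
      rcases lt_or_ge p m with h | h
      · refine le_trans ?_ (Nat.le_mul_of_pos_right _ (by positivity))
        exact le_add_right (Finset.single_le_sum (f := fun p => hdim F p (i + 1)) (fun _ _ => Nat.zero_le _)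
          (Finset.mem_range.2 h))
      · obtain ⟨q, rfl⟩ : ∃ q, p = q + m := ⟨p - m, by omega⟩
        refine (h1 q i).trans ((Nat.add_le_add (hC (q + m)) (ihp q (by omega))).trans ?_)
        have e1 : (q + 1) ^ (i + 1) ≤ (q + m) * (q + m + 1) ^ i := by
          rw [pow_succ, mul_comm]
          exact Nat.mul_le_mul (by omega) (Nat.pow_le_pow_left (by omega) i)
        have e2 : (q + m + 1) ^ (i + 1) = (q + m) * (q + m + 1) ^ i + (q + m + 1) ^ i := by ring
        rw [e2, mul_add, add_comm]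
        exact Nat.add_le_add (Nat.mul_le_mul_left _ e1) (Nat.mul_le_mul_right _ (Nat.le_add_left C _))

theorem natDegree_lt_of_bound {R : Polynomial ℚ} {C : ℚ} {e : ℕ}
    (h : ∀ p : ℕ, |R.eval (p : ℚ)| ≤ C * ((p : ℚ) + 1) ^ e) : R.natDegree ≤ e := by
  by_contra hlt
  push Not at hlt
  have hQ : ((Polynomial.X + 1 : Polynomial ℚ) ^ e).degree < R.degree := by
    have hR : R ≠ 0 := fun h0 => by simp [h0] at hlt
    rw [Polynomial.degree_pow, show (Polynomial.X + 1 : Polynomial ℚ).degree = 1 from Polynomial.degree_X_add_C 1,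
      Polynomial.degree_eq_natDegree hR, nsmul_one]
    exact_mod_cast hlt
  have hne : ((Polynomial.X + 1 : Polynomial ℚ) ^ e) ≠ 0 := pow_ne_zero _ (Polynomial.X_add_C_ne_zero 1)
  have ht := (Polynomial.abs_div_tendsto_atTop_of_degree_gt R _ hQ hne).comp
    (tendsto_natCast_atTop_atTop (R := ℚ))
  obtain ⟨p, hp⟩ := (ht.eventually_gt_atTop C).exists
  have hpos : (0 : ℚ) < ((p : ℚ) + 1) ^ e := by positivity
  simp only [Function.comp_apply, Polynomial.eval_pow, Polynomial.eval_add, Polynomial.eval_X, Polynomial.eval_one,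
    abs_div, abs_of_pos hpos, lt_div_iff₀ hpos] at hp
  exact absurd (h p) (not_le.2 hp)

theorem euler_eq_phi_ft (F : (CohB1.ProjSpace n k).Modules) (a : ℕ) :
    (Curv2.euler k (CohB1.ProjSpace n k) (Ft F a) : ℚ) =
      Snapper.phi k 1 (fun _ => Twist.twistProjSpace n k 1) F (fun _ => a) := by
  obtain ⟨e⟩ := GrTilde.nonempty_twist_iso_tensorPow (𝒜 := CohB1.polyGrading n k) h1 a
  exact euler_eq_phi (X := CohB1.ProjSpace n k) k _ F _ a e

/-- The Hilbert polynomial, valid for all twists. -/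
theorem exists_hilbertPolynomial {F : (CohB1.ProjSpace n k).Modules} (hF : Coh.IsCoh F) :
    ∃ P : Polynomial ℚ, ∀ t : ℤ, (Curv2.euler k (CohB1.ProjSpace n k) (Ft F t) : ℚ) = P.eval (t : ℚ) := by
  haveI : IsProper (CohB1.ProjSpace n k ↘ Spec (CommRingCat.of k)) := Chow.isProper_toSpec n k
  have key : ∀ G : (CohB1.ProjSpace n k).Modules, Coh.IsCoh G →
      ∃ P : Polynomial ℚ, ∀ a : ℕ, (Curv2.euler k (CohB1.ProjSpace n k) (Ft G a) : ℚ) = P.eval (a : ℚ) := by
    intro G hG
    obtain ⟨D, hD⟩ := exists_dimLT (CohB1.support G)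
    obtain ⟨Q, -, hQ⟩ := exists_polynomial_of_mem
      (Snapper.phi_mem_polyLT k (r := 1) (L := fun _ => Twist.twistProjSpace n k 1) (fun _ => isInvertible_twist 1)
        D G hG hD)
    exact ⟨Q, fun a => (euler_eq_phi_ft G a).trans (hQ a)⟩
  obtain ⟨P, hP⟩ := key F hF
  refine ⟨P, fun t => ?_⟩
  obtain ⟨M, hM⟩ : ∃ M : ℕ, 0 ≤ t + M := ⟨(-t).toNat, by omega⟩
  obtain ⟨PM, hPM⟩ := key (Ft F (-(M : ℤ))) (isCoh_Ft hF _)
  have hshift : ∀ a : ℕ, (Curv2.euler k (CohB1.ProjSpace n k) (Ft F ((a : ℤ) - M)) : ℚ) = PM.eval (a : ℚ) := by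
    intro a
    obtain ⟨g⟩ := nonempty_Ft_Ft F (-(M : ℤ)) a ((a : ℤ) - M) (by ring)
    rw [← Euler.euler_of_iso k g]
    exact hPM a
  have heq : PM = P.comp (Polynomial.X - Polynomial.C (M : ℚ)) := by
    refine Polynomial.eq_of_infinite_eval_eq _ _ (Set.Infinite.mono ?_
      (Set.infinite_range_of_injective (f := fun a : ℕ => ((a + M : ℕ) : ℚ)) fun a b h => by simpa using h))
    rintro _ ⟨a, rfl⟩
    show PM.eval _ = _
    rw [← hshift (a + M), Polynomial.eval_comp, Polynomial.eval_sub, Polynomial.eval_X, Polynomial.eval_C,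
      show ((a + M : ℕ) : ℤ) - M = a by push_cast; ring, hP a]
    congr 1
    push_cast; ring
  have h := hshift (t + M).toNat
  rw [show ((t + M).toNat : ℤ) - M = t by omega, heq, Polynomial.eval_comp, Polynomial.eval_sub, Polynomial.eval_X,
    Polynomial.eval_C] at h
  rw [h]
  congr 1
  rw [show ((t + M).toNat : ℚ) = (((t + M).toNat : ℤ) : ℚ) by push_cast; rfl, Int.toNat_of_nonneg hM]
  push_cast; ring

/-- Some twist has cohomology in the degree of the dimension of the support. -/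
theorem exists_nontrivial_top {F : (CohB1.ProjSpace n k).Modules} (hF : Coh.IsCoh F) (a : ℕ) (ha : 1 ≤ a)
    (hdim' : topologicalKrullDim ↥(CohB1.support F) = a) :
    ∃ m : ℤ, Nontrivial (Coh.HH (CohB1.ProjSpace n k) (Ft F m) a) := by
  haveI : IsProper (CohB1.ProjSpace n k ↘ Spec (CommRingCat.of k)) := Chow.isProper_toSpec n k
  by_contra hne
  push Not at hne
  have hsupp : (CohB1.support F).Nonempty := by
    rw [Set.nonempty_iff_ne_empty]
    intro h
    rw [h] at hdim'
    have : IsEmpty (∅ : Set (CohB1.ProjSpace n k)) := Set.isEmpty_coe_sort.2 rfl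
    have hb : topologicalKrullDim (∅ : Set (CohB1.ProjSpace n k)) = ⊥ := by
      haveI : IsEmpty (IrreducibleCloseds (∅ : Set (CohB1.ProjSpace n k))) :=
        ⟨fun C => IsEmpty.false C.isIrreducible.nonempty.some⟩
      exact Order.krullDim_eq_bot
    rw [hb] at hdim'
    exact WithBot.bot_ne_natCast a hdim'
  obtain ⟨P, hP⟩ := exists_hilbertPolynomial hF
  have hdeg : P.natDegree = a := by
    have h := supportDim_eq_natDegree hF hsupp P fun b => by simpa using hP b
    rw [hdim'] at h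
    exact_mod_cast h.symm
  have hD : Snapper.DimLT (CohB1.support F) (a + 1) := Snapper.dimLT_of_dim_le hdim'.le
  choose C hC using fun i : ℕ => exists_bound i F hF
  have hb : ∀ p : ℕ, |(P.comp (-Polynomial.X)).eval (p : ℚ)| ≤
      (∑ i ∈ Finset.range a, (C i : ℚ)) * ((p : ℚ) + 1) ^ (a - 1) := by
    intro p
    have hcast : (P.comp (-Polynomial.X)).eval (p : ℚ) = P.eval ((-(p : ℤ) : ℤ) : ℚ) := by
      simp [Polynomial.eval_comp]
    rw [hcast, ← hP, Euler.euler_eq_sum k (Ft F (-(p : ℤ))) (N := a) fun i hi => ?_]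
    · push_cast
      refine (Finset.abs_sum_le_sum_abs _ _).trans ?_
      rw [Finset.sum_mul]
      refine Finset.sum_le_sum fun i hi => ?_
      rw [abs_mul, abs_pow, abs_neg, abs_one, one_pow, one_mul, Nat.abs_cast]
      calc (hdim F p i : ℚ) ≤ (C i : ℚ) * ((p : ℚ) + 1) ^ i := by exact_mod_cast hC i p
        _ ≤ _ := mul_le_mul_of_nonneg_left (pow_le_pow_right₀ (by simp) (by
              have := Finset.mem_range.1 hi; omega)) (Nat.cast_nonneg _)
    · rcases eq_or_lt_of_le hi with rfl | hlt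
      · exact hne (-(p : ℤ))
      · exact HodgeIndex.subsingleton_HH_of_dimLT (X := CohB1.ProjSpace n k) k
          (Ample.isAmple_twistProjSpace_one n k) (a + 1) _ (isCoh_Ft hF _)
          (hD.mono (support_tensorMod_subset (X := CohB1.ProjSpace n k) _ _ (isInvertible_twist _))) i hlt
  have h := natDegree_lt_of_bound hb
  rw [Polynomial.natDegree_comp, Polynomial.natDegree_neg, Polynomial.natDegree_X, mul_one, hdeg] at h
  omega

end GrothLib.CMReg
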