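import Groth.Agent.Lib.CMReg.ProjSpace
import Groth.Agent.Lib.Snapper.Positive
import Groth.Agent.Lib.Dim.Scheme
import Groth.Agent.Lib.ProjDim.Const
import Groth.Agent.Lib.GrTilde.Mul

/-!
# The degree of the Hilbert polynomial is the dimension of the support
-/

universe u

set_option backward.isDefEq.respectTransparency false

open AlgebraicGeometry CategoryTheory CategoryTheory.Limits TopologicalSpace

noncomputable section

namespace GrothLib.CMReg

open Snapper

theorem exists_polynomial_of_mem {e : ℕ} {g : (Fin 1 → ℕ) → ℚ} (hg : g ∈ polyLT 1 e) :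
    ∃ Q : Polynomial ℚ, Q.degree < e ∧ ∀ a : ℕ, g (fun _ => a) = Q.eval (a : ℚ) := by
  induction hg using Submodule.span_induction with
  | mem g hg =>
    obtain ⟨m, hm, rfl⟩ := hg
    refine ⟨Polynomial.X ^ m 0, ?_, fun a => by simp [Snapper.mono]⟩
    rw [Polynomial.degree_X_pow]
    exact_mod_cast (show m 0 < e by simpa using hm)
  | zero => exact ⟨0, by simp, fun a => by simp⟩
  | add g h _ _ hg hh =>
    obtain ⟨P, hP, hPg⟩ := hg
    obtain ⟨Q, hQ, hQh⟩ := hh
    exact ⟨P + Q, (Polynomial.degree_add_le _ _).trans_lt (max_lt hP hQ), fun a => by simp [hPg, hQh]⟩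
  | smul c g _ hg =>
    obtain ⟨P, hP, hPg⟩ := hg
    exact ⟨c • P, (Polynomial.degree_smul_le _ _).trans_lt hP, fun a => by simp [hPg]⟩

variable {n : ℕ} {k : Type u} [Field k]

theorem exists_dimLT (S : Set (CohB1.ProjSpace n k)) : ∃ D, DimLT S D := by
  haveI : IsIntegral (CohB1.ProjSpace n k) := ProjDim.isIntegral_proj k n
  haveI := Chow.isProper_toSpec n k
  obtain ⟨D, hD, -⟩ := Dim.exists_nat_dim_open (K := k) (CohB1.ProjSpace.toSpec n k)
  have h : DimLT (Set.univ : Set (CohB1.ProjSpace n k)) (D + 1) := by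
    refine dimLT_of_dim_le (le_trans ?_ hD.le)
    exact Topology.IsInducing.topologicalKrullDim_le (f := Subtype.val) Topology.IsInducing.subtypeVal
  exact ⟨D + 1, h.mono (Set.subset_univ S)⟩

theorem euler_eq_phi {X : Scheme.{u}} (k : Type u) [Field k] [X.Over (Spec (CommRingCat.of k))] (L F N : X.Modules)
    (a : ℕ) (e : N ≅ CohB1.tensorPow L a) :
    (Curv2.euler k X (CohB1.tensorMod F N) : ℚ) = phi k 1 (fun _ => L) F (fun _ => a) := by
  rw [phi_const_eq, Fin.sum_univ_one]
  exact congrArg Int.cast (Euler.euler_of_iso k (Ample.LineData.tensorModMapIso (Iso.refl F) e))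

/-- The degree of the polynomial of an ample twist is the dimension of the support. -/
theorem supportDim_eq_natDegree_of_phi {X : Scheme.{u}} (k : Type u) [Field k]
    [X.Over (Spec (CommRingCat.of k))] [IsProper (X ↘ Spec (CommRingCat.of k))] {L : X.Modules}
    (hA : CohB1.IsAmple L) (hL : PicF.IsInvertible L) {F : X.Modules} (hF : Coh.IsCoh F)
    (hne : (CohB1.support F).Nonempty) (hex : ∃ D, DimLT (CohB1.support F) D) (P : Polynomial ℚ)
    (hP : ∀ a : ℕ, phi k 1 (fun _ => L) F (fun _ => a) = P.eval (a : ℚ)) :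
    topologicalKrullDim ↥(CohB1.support F) = (P.natDegree : WithBot ℕ∞) := by
  classical
  let S := CohB1.support F
  have hS : IsClosed S := QCoh.isClosed_support_of_isCoh hF
  obtain ⟨d, hd, hd'⟩ : ∃ d, DimLT S (d + 1) ∧ ¬ DimLT S d := by
    have h0 : ¬ DimLT S 0 := not_dimLT_zero hne
    obtain ⟨d, hd⟩ : ∃ d, Nat.find hex = d + 1 :=
      ⟨Nat.find hex - 1, by have := (Nat.find_eq_zero hex).not.2 h0; omega⟩
    exact ⟨d, hd ▸ Nat.find_spec hex, Nat.find_min hex (by omega)⟩
  obtain ⟨l, hl, hdl⟩ : ∃ l : LTSeries X, (∀ i, l i ∈ S) ∧ d ≤ l.length := by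
    simpa [DimLT] using hd'
  have hdim : topologicalKrullDim S = (d : WithBot ℕ∞) :=
    le_antisymm (dim_le_of_dimLT hS hd) (le_trans (by exact_mod_cast hdl) (length_le_dim S l hl))
  have hcl : closure ({l.last} : Set X) ⊆ S :=
    closure_minimal (Set.singleton_subset_iff.2 (hl _)) hS
  have htop : IsTop d l.last := by
    refine isTop_of (hd.mono hcl) fun h => ?_
    have := h l fun i => specializes_iff_mem_closure.1 (show l i ≤ l.last from l.monotone (Fin.le_last i))
    omega
  have hpos := mixed_pos k d X L hA F hF hd ⟨l.last, hl _, htop⟩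
  obtain ⟨c, hc⟩ := exists_lead (phi_mem_polyLT k (r := 1) (L := fun _ => L) (fun _ => hL) (d + 1) F hF hd)
  have hmix := mixed_comp_sumArg hc
  rw [← phi_const_comp k L F d] at hmix
  have hc0 : c ≠ 0 := fun h => by rw [h, zero_mul] at hmix; rw [hmix] at hpos; exact lt_irrefl _ hpos
  obtain ⟨Q, hQ, hQg⟩ := exists_polynomial_of_mem hc
  have heval : ∀ a : ℕ, P.eval (a : ℚ) = (Polynomial.C c * Polynomial.X ^ d + Q).eval (a : ℚ) := by
    intro a
    have hφ : phi k 1 (fun _ => L) F (fun _ => a) = P.eval (a : ℚ) := hP a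
    have h := hQg a
    simp only [Pi.sub_apply, Pi.smul_apply, hφ, smul_eq_mul, Snapper.mono, Fin.prod_univ_one] at h
    simp only [Polynomial.eval_add, Polynomial.eval_mul, Polynomial.eval_C, Polynomial.eval_pow, Polynomial.eval_X]
    linarith
  have hPQ : P = Polynomial.C c * Polynomial.X ^ d + Q := by
    refine Polynomial.eq_of_infinite_eval_eq _ _ (Set.Infinite.mono ?_
      (Set.infinite_range_of_injective (Nat.cast_injective (R := ℚ))))
    rintro _ ⟨a, rfl⟩
    exact heval a
  rw [hdim, hPQ, Polynomial.natDegree_eq_of_degree_eq_some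
    (show (Polynomial.C c * Polynomial.X ^ d + Q).degree = (d : WithBot ℕ) by
      rw [Polynomial.degree_add_eq_left_of_degree_lt] <;> rw [Polynomial.degree_C_mul_X_pow d hc0]
      exact hQ)]

theorem supportDim_eq_natDegree {F : (CohB1.ProjSpace n k).Modules} (hF : Coh.IsCoh F)
    (hne : (CohB1.support F).Nonempty) (P : Polynomial ℚ)
    (hP : ∀ a : ℕ, (Curv2.euler k (CohB1.ProjSpace n k) (Ft F a) : ℚ) = P.eval (a : ℚ)) :
    topologicalKrullDim ↥(CohB1.support F) = (P.natDegree : WithBot ℕ∞) := by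
  haveI : IsProper (CohB1.ProjSpace n k ↘ Spec (CommRingCat.of k)) := Chow.isProper_toSpec n k
  refine supportDim_eq_natDegree_of_phi (X := CohB1.ProjSpace n k) k (Ample.isAmple_twistProjSpace_one n k)
    (isInvertible_twist 1) hF hne (exists_dimLT _) P fun a => ?_
  obtain ⟨e⟩ := GrTilde.nonempty_twist_iso_tensorPow (𝒜 := CohB1.polyGrading n k) h1 a
  exact (euler_eq_phi (X := CohB1.ProjSpace n k) k _ F _ a e).symm.trans (hP a)

end GrothLib.CMReg
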