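import Groth.Agent.Lib.CMReg.Koszul
import Mathlib.Algebra.Homology.ShortComplex.ModuleCat

/-!
# Dimension shifting along the Koszul resolution
-/

universe u

set_option backward.isDefEq.respectTransparency false

open AlgebraicGeometry CategoryTheory CategoryTheory.Limits TopologicalSpace Opposite
open GrothLib.InvExt (mres)
open GrothLib.Ample (Cocycle res)
open GrothLib.QCoh (stalkLin)

noncomputable section

namespace GrothLib.CMReg

variable {X : Scheme.{u}} (c : Cocycle X) (a : ℕ → c.sect 1 ⊤)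

/-- The loci of the first `r` sections cover. -/
def Covers (r : ℕ) : Prop := ∀ x : X, ∃ l < r, x ∈ c.locus (a l)

variable {c a} {r : ℕ} (hc : Covers c a r) (M : X.Modules)

/-- The cycles of the Koszul resolution. -/
abbrev cyc (c : Cocycle X) (a : ℕ → c.sect 1 ⊤) (r : ℕ) (M : X.Modules) (j : ℕ) : X.Modules :=
  kernel (((kos c a r).d j).app M)

include hc in
theorem isZero_cyc_zero : IsZero (cyc c a r M 0) := by
  have : Mono (((kos c a r).d 0).app M) := by
    rw [OX.mono_iff]
    intro x
    rw [ModuleCat.mono_iff_injective]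
    exact (exAt_kos c a x r (hc x) M).1
  exact (isZero_zero _).of_iso (kernel.ofMono _)

/-- The short complex `Z_j → K_j → Z_{j+1}`. -/
abbrev cycSeq (c : Cocycle X) (a : ℕ → c.sect 1 ⊤) (r : ℕ) (M : X.Modules) (j : ℕ) :
    ShortComplex X.Modules :=
  ShortComplex.mk (kernel.ι (((kos c a r).d j).app M))
    (kernel.lift (((kos c a r).d (j + 1)).app M) (((kos c a r).d j).app M) ((kos c a r).dd j M)) (by
      apply (cancel_mono (kernel.ι _)).1
      rw [Category.assoc, kernel.lift_ι, kernel.condition, zero_comp])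

include hc in
theorem shortExact_cycSeq (j : ℕ) : (cycSeq c a r M j).ShortExact := by
  let T := ShortComplex.mk (((kos c a r).d j).app M) (((kos c a r).d (j + 1)).app M) ((kos c a r).dd j M)
  have hT : T.Exact := by
    rw [OX.exact_iff]
    intro x
    rw [ShortComplex.moduleCat_exact_iff]
    intro z hz
    exact (exAt_kos c a x r (hc x) M).2 j z hz
  haveI : Epi (cycSeq c a r M j).g := hT.epi_kernelLift
  haveI : Mono (cycSeq c a r M j).f := inferInstanceAs (Mono (kernel.ι _))
  refine { exact := ShortComplex.exact_of_f_is_kernel _ ?_ }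
  refine KernelFork.IsLimit.ofι' _ _ fun {A} k hk => ?_
  refine ⟨kernel.lift _ k ?_, kernel.lift_ι _ _ _⟩
  have h := congrArg (· ≫ kernel.ι (((kos c a r).d (j + 1)).app M)) hk
  simpa only [Category.assoc, kernel.lift_ι, zero_comp] using h

include hc in
theorem subsingleton_cyc : ∀ (j q : ℕ),
    (∀ s, s < j → Subsingleton (Coh.HH X ((twPow c s).obj M) (q + (j - 1 - s)))) →
      Subsingleton (Coh.HH X (cyc c a r M j) q) := by
  intro j
  induction j with
  | zero => exact fun q _ => Cohom.subsingleton_HH_of_isZero (isZero_cyc_zero hc M) q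
  | succ j ih =>
    intro q h
    have h2 : Subsingleton (Coh.HH X (((kos c a r).K j).obj M) q) := by
      refine subsingleton_kos c a r j M q ?_
      have := h j j.lt_succ_self
      rwa [show q + (j + 1 - 1 - j) = q by omega] at this
    have h1 : Subsingleton (Coh.HH X (cyc c a r M j) (q + 1)) := ih (q + 1) fun s hs => by
      have := h s (hs.trans j.lt_succ_self)
      rwa [show q + (j + 1 - 1 - s) = q + 1 + (j - 1 - s) by omega] at this
    exact subsingleton_X₃ (shortExact_cycSeq hc M j) h2 h1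

/-- The top term of the Koszul resolution is the iterated twist. -/
def top (c : Cocycle X) (a : ℕ → c.sect 1 ⊤) : ∀ r, (kos c a r).K r ⟶ twPow c r
  | 0 => 𝟙 _
  | r + 1 =>
    { app := fun M => (biprod.snd : ((kos c a r).K (r + 1)).obj M ⊞ ((kos c a r).K r).obj ((tw c).obj M) ⟶ _) ≫
        (top c a r).app ((tw c).obj M)
      naturality := fun M N f => by
        show biprod.map _ _ ≫ biprod.snd ≫ _ = (biprod.snd ≫ _) ≫ (twPow c r).map ((tw c).map f)
        rw [biprod.map_snd_assoc, Category.assoc]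
        exact congrArg (biprod.snd ≫ ·) ((top c a r).naturality ((tw c).map f)) }

theorem isIso_top (c : Cocycle X) (a : ℕ → c.sect 1 ⊤) : ∀ (r : ℕ) (M : X.Modules),
    IsIso ((top c a r).app M) := by
  intro r
  induction r with
  | zero => exact fun M => inferInstanceAs (IsIso (𝟙 M))
  | succ r ih =>
    intro M
    haveI := ih ((tw c).obj M)
    have hz := isZero_kos c a r (r + 1) r.lt_succ_self M
    haveI : IsIso (biprod.snd : ((kos c a r).K (r + 1)).obj M ⊞ ((kos c a r).K r).obj ((tw c).obj M) ⟶ _) :=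
      ⟨biprod.inr, biprod.hom_ext _ _ (hz.eq_of_tgt _ _) (by simp), by simp⟩
    exact inferInstanceAs (IsIso (biprod.snd ≫ (top c a r).app ((tw c).obj M)))

theorem top_d_mem (c : Cocycle X) (a : ℕ → c.sect 1 ⊤) : ∀ (r : ℕ) (M : X.Modules)
    (z : Γ(((kos c a (r + 1)).K r).obj M, ⊤)),
    ∃ s : Fin (r + 1) → Γ((twPow c r).obj M, ⊤),
      ((top c a (r + 1)).app M).app ⊤ ((((kos c a (r + 1)).d r).app M).app ⊤ z) =
        ∑ l : Fin (r + 1), ((twPow c r).map (raise c (a l) M)).app ⊤ (s l) := by
  intro r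
  induction r with
  | zero =>
    intro M z
    refine ⟨fun _ => z, ?_⟩
    rw [Fin.sum_univ_one, ← ConcreteCategory.comp_apply, ← Scheme.Modules.Hom.comp_app]
    have e : ((kos c a 1).d 0).app M ≫ (top c a 1).app M = (twPow c 0).map (raise c (a (0 : Fin 1)) M) := by
      show biprod.lift _ _ ≫ biprod.snd ≫ 𝟙 _ = _
      rw [Category.comp_id, biprod.lift_snd]
      rfl
    rw [e]
    rfl
  | succ r ih =>
    intro M z
    let P := kos c a (r + 1)
    let u : Γ((P.K (r + 1)).obj M, ⊤) :=
      (biprod.fst : (P.K (r + 1)).obj M ⊞ (P.K r).obj ((tw c).obj M) ⟶ _).app ⊤ z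
    let v : Γ((P.K r).obj ((tw c).obj M), ⊤) :=
      (biprod.snd : (P.K (r + 1)).obj M ⊞ (P.K r).obj ((tw c).obj M) ⟶ _).app ⊤ z
    obtain ⟨s, hs⟩ := ih ((tw c).obj M) v
    refine ⟨Fin.snoc (α := fun _ => Γ((twPow c (r + 1)).obj M, ⊤)) (fun l => -(show Γ((twPow c (r + 1)).obj M, ⊤) from s l))
      (((top c a (r + 1)).app M).app ⊤ u), ?_⟩
    have e : ((kos c a (r + 2)).d (r + 1)).app M ≫ (top c a (r + 2)).app M =
        biprod.fst ≫ (top c a (r + 1)).app M ≫ (twPow c (r + 1)).map (raise c (a (r + 1)) M) -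
          biprod.snd ≫ (P.d r).app ((tw c).obj M) ≫ (top c a (r + 1)).app ((tw c).obj M) := by
      show biprod.lift _ _ ≫ biprod.snd ≫ (top c a (r + 1)).app ((tw c).obj M) = _
      rw [biprod.lift_snd_assoc, Preadditive.sub_comp, Category.assoc, Category.assoc,
        (top c a (r + 1)).naturality]
    rw [← ConcreteCategory.comp_apply, ← Scheme.Modules.Hom.comp_app, e, Fin.sum_univ_castSucc]
    simp only [Fin.snoc_castSucc, Fin.snoc_last, map_neg, Finset.sum_neg_distrib, Fin.val_castSucc,
      Fin.val_last]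
    rw [Scheme.Modules.Hom.sub_app]
    show _ - ((top c a (r + 1)).app ((tw c).obj M)).app ⊤ (((P.d r).app ((tw c).obj M)).app ⊤ v) = _
    rw [hs, sub_eq_neg_add]
    refine congrArg₂ (· + ·) (congrArg _ (Finset.sum_congr rfl fun l _ => ?_)) rfl
    show ((twPow c r).map (raise c (a l) ((tw c).obj M))).app ⊤ (s l) = _
    rw [← tw_map_raise]
    rfl

/-- Vanishing for the iterated twist from vanishing for the lower ones. -/
theorem subsingleton_twPow {c : Cocycle X} {a : ℕ → c.sect 1 ⊤} {r : ℕ} (hc : Covers c a r) (M : X.Modules)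
    {q : ℕ} (h : ∀ s, s < r → Subsingleton (Coh.HH X ((twPow c s).obj M) (q + (r - 1 - s)))) :
    Subsingleton (Coh.HH X ((twPow c r).obj M) q) := by
  have hd : ((kos c a r).d r).app M = 0 := (isZero_kos c a r (r + 1) r.lt_succ_self M).eq_of_tgt _ _
  haveI := isIso_top c a r M
  exact subsingleton_of_iso ((eqToIso (congrArg (fun φ => kernel φ) hd) ≪≫ kernelZeroIsoSource) ≪≫
    asIso ((top c a r).app M)) (subsingleton_cyc hc M r q h)

/-- Global sections of the top twist are combinations of multiples. -/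
theorem exists_sum_twPow {c : Cocycle X} {a : ℕ → c.sect 1 ⊤} {r : ℕ} (hc : Covers c a (r + 1)) (M : X.Modules)
    (h : ∀ s, s < r → Subsingleton (Coh.HH X ((twPow c s).obj M) (1 + (r - 1 - s))))
    (z : Γ((twPow c (r + 1)).obj M, ⊤)) :
    ∃ s : Fin (r + 1) → Γ((twPow c r).obj M, ⊤),
      z = ∑ l : Fin (r + 1), ((twPow c r).map (raise c (a l) M)).app ⊤ (s l) := by
  have hd : ((kos c a (r + 1)).d (r + 1)).app M = 0 :=
    (isZero_kos c a (r + 1) (r + 2) (r + 1).lt_succ_self M).eq_of_tgt _ _
  have hS := shortExact_cycSeq hc M r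
  obtain ⟨w, hw⟩ := surjective_app_top hS (subsingleton_cyc hc M r 1 h)
    ((kernel.lift (((kos c a (r + 1)).d (r + 1)).app M) (𝟙 _) (by rw [hd, comp_zero])).app ⊤
      ((haveI := isIso_top c a (r + 1) M; inv ((top c a (r + 1)).app M)).app ⊤ z))
  obtain ⟨s, hs⟩ := top_d_mem c a r M w
  refine ⟨s, Eq.trans ?_ hs⟩
  haveI := isIso_top c a (r + 1) M
  have hw' := congrArg ((kernel.ι (((kos c a (r + 1)).d (r + 1)).app M)).app ⊤) hw
  rw [← ConcreteCategory.comp_apply, ← Scheme.Modules.Hom.comp_app, kernel.lift_ι] at hw'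
  rw [hw', ← ConcreteCategory.comp_apply, ← ConcreteCategory.comp_apply, ← ConcreteCategory.comp_apply,
    ← Scheme.Modules.Hom.comp_app, ← Scheme.Modules.Hom.comp_app, ← Scheme.Modules.Hom.comp_app]
  simp

end GrothLib.CMReg
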