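import Groth.Agent.Lib.CMReg.Mult
import Groth.Agent.Lib.CMReg.Chase
import Groth.Agent.Lib.Cube.Pic
import Groth.Agent.Lib.NefGrowth.IntNum

/-!
# Koszul surjectivity for a globally generated invertible module
-/

universe u

set_option backward.isDefEq.respectTransparency false

open AlgebraicGeometry CategoryTheory CategoryTheory.Limits TopologicalSpace Opposite
open GrothLib.InvExt (mres)
open GrothLib.Ample (Cocycle res)
open GrothLib.QCoh (stalkLin stalkLin_germ)

noncomputable section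

namespace GrothLib.CMReg

variable {X : Scheme.{u}} (c : Cocycle X)

theorem epi_desc_of_generators {L : X.Modules} {ι : Type u} (p : SheafOfModules.free (R := X.ringCatSheaf) ι ⟶ L)
    [Epi p] {r : ℕ} (φ : FlatMod.freeMod X r ⟶ L)
    (h : ∀ z : Γ(L, ⊤), z ∈ Submodule.span Γ(X, ⊤) (Set.range fun w : Γ(FlatMod.freeMod X r, ⊤) => φ.app ⊤ w)) :
    Epi φ := by
  refine ⟨fun {N : X.Modules} (g : L ⟶ N) (g' : L ⟶ N) hgg => ?_⟩
  have hall : ∀ z : Γ(L, ⊤), g.app ⊤ z = g'.app ⊤ z := by
    intro z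
    induction h z using Submodule.span_induction with
    | mem w hw =>
      obtain ⟨v, rfl⟩ := hw
      rw [← ConcreteCategory.comp_apply, ← ConcreteCategory.comp_apply, ← Scheme.Modules.Hom.comp_app,
        ← Scheme.Modules.Hom.comp_app, hgg]
    | zero => rw [map_zero, map_zero]
    | add a b _ _ ha hb => rw [map_add, map_add, ha, hb]
    | smul t a _ ha => rw [Ample.app_smul, Ample.app_smul, ha]
  refine (cancel_epi p).1 ((N.freeHomEquiv).injective (funext fun i => ?_))
  refine PresheafOfModules.sections_ext _ _ fun V => ?_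
  rw [SheafOfModules.freeHomEquiv_comp_apply, SheafOfModules.freeHomEquiv_comp_apply]
  let s := L.freeHomEquiv p i
  have hs : (s.1 V : Γ(L, V.unop)) = mres L (le_top : V.unop ≤ ⊤) (show Γ(L, ⊤) from s.1 (op ⊤)) :=
    (PresheafOfModules.sections_property s (homOfLE (le_top : V.unop ≤ ⊤)).op).symm
  show g.app V.unop (s.1 V) = g'.app V.unop (s.1 V)
  rw [hs, Ample.app_mres, Ample.app_mres, hall]

/-- An epimorphism from a free module given by sections has them covering. -/
theorem covers_of_epi {r : ℕ} (a : Fin r → c.sect 1 ⊤) (h : Epi (Sigma.desc fun l => c.hom (a l))) (x : X) :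
    ∃ l, x ∈ c.locus (a l) := by
  by_contra hne
  push Not at hne
  obtain ⟨i, hi⟩ := c.exists_mem x
  let φ : FlatMod.freeMod X r ⟶ c.twist 1 := Sigma.desc fun l => c.hom (a l)
  have hsurj : Function.Surjective (stalkLin φ x) := by
    have h1 := (OX.epi_iff φ).1 h x
    rw [ModuleCat.epi_iff_surjective] at h1
    exact h1
  obtain ⟨z, hz⟩ := hsurj ((c.twist 1).presheaf.germ (c.D i) x hi (c.base 1 i le_rfl))
  obtain ⟨U, hxU, z, rfl⟩ := TopCat.Presheaf.exists_germ_eq (FlatMod.freeMod X r).presheaf z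
  rw [stalkLin_germ] at hz
  obtain ⟨W, hxW, iU, iD, hW⟩ := TopCat.Presheaf.germ_eq (c.twist 1).presheaf x hxU hi _ _ hz
  haveI : HasFiniteBiproducts X.Modules := HasFiniteBiproducts.of_hasFiniteCoproducts
  let F : Fin r → X.Modules := fun _ => Coh.structureModule X
  let π : ∀ l, FlatMod.freeMod X r ⟶ Coh.structureModule X := fun l =>
    (biproduct.isoCoproduct F).inv ≫ biproduct.π F l
  have htot : φ = ∑ l, π l ≫ c.hom (a l) := by
    have hι : ∀ l, Sigma.ι F l = biproduct.ι F l ≫ (biproduct.isoCoproduct F).hom := fun l => by simp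
    have hid : ∑ l, π l ≫ Sigma.ι F l = 𝟙 (∐ F) := by
      simp only [π, hι, Category.assoc, ← Preadditive.comp_sum]
      simp only [← Category.assoc (biproduct.π F _), ← Preadditive.sum_comp]
      rw [biproduct.total, Category.id_comp, Iso.inv_hom_id]
    calc φ = (∑ l, π l ≫ Sigma.ι F l) ≫ φ := by rw [hid, Category.id_comp]
      _ = _ := by
        rw [Preadditive.sum_comp]
        exact Finset.sum_congr rfl fun l _ => by rw [Category.assoc]; exact congrArg (π l ≫ ·) (Sigma.ι_desc _ _)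
  have hW' : φ.app W (mres (FlatMod.freeMod X r) iU.le z) =
      (show Γ(c.twist 1, W) from c.sectRes iD.le (c.base 1 i le_rfl)) := (Ample.app_mres φ iU.le z).trans hW
  have hxi : x ∈ W ⊓ c.D i := ⟨hxW, hi⟩
  let ev : c.sect 1 W →+ X.presheaf.stalk x :=
    { toFun := fun t => X.presheaf.germ (W ⊓ c.D i) x hxi (t.1 i)
      map_zero' := map_zero _
      map_add' := fun t t' => map_add _ _ _ }
  let evW : (FlatMod.freeMod X r ⟶ c.twist 1) →+ c.sect 1 W :=
    AddMonoidHom.mk' (fun f => f.app W (mres (FlatMod.freeMod X r) iU.le z)) (fun f g => rfl)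
  have hm : ev (show c.sect 1 W from φ.app W (mres (FlatMod.freeMod X r) iU.le z)) ∈
      IsLocalRing.maximalIdeal (X.presheaf.stalk x) := by
    rw [htot]
    change ev (evW (∑ l, π l ≫ c.hom (a l))) ∈ _
    rw [map_sum, map_sum]
    refine Ideal.sum_mem _ fun l _ => ?_
    show ev (show c.sect 1 W from (π l ≫ c.hom (a l)).app W (mres (FlatMod.freeMod X r) iU.le z)) ∈ _
    let y : Γ(X, W) := (π l).app W (mres (FlatMod.freeMod X r) iU.le z)
    have he : (show c.sect 1 W from (π l ≫ c.hom (a l)).app W (mres (FlatMod.freeMod X r) iU.le z)) =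
        y • c.sectRes le_top (a l) := c.hom_app_apply (a l) W y
    refine he ▸ ?_
    show X.presheaf.germ (W ⊓ c.D i) x hxi ((y • c.sectRes (le_top : W ≤ ⊤) (a l)).1 i) ∈ _
    rw [c.smul_apply, c.sectRes_apply, map_mul]
    refine Ideal.mul_mem_left _ _ ?_
    rw [IsLocalRing.mem_maximalIdeal]
    intro hu
    refine hne l ?_
    erw [TopCat.Presheaf.germ_res_apply] at hu
    exact (c.mem_locus_iff (a l) hi).2 ((Scheme.mem_basicOpen _ _ x _).2 hu)
  refine (IsLocalRing.maximalIdeal.isMaximal (X.presheaf.stalk x)).ne_top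
    ((Ideal.eq_top_iff_one (IsLocalRing.maximalIdeal (X.presheaf.stalk x))).2 ?_)
  rw [hW'] at hm
  change X.presheaf.germ (W ⊓ c.D i) x hxi ((c.sectRes iD.le (c.base 1 i le_rfl)).1 i) ∈ _ at hm
  rw [c.sectRes_apply, c.base_self, map_one, map_one] at hm
  exact hm

theorem products_one_of_sum {r : ℕ} (a : Fin r → c.sect 1 ⊤) (M : X.Modules)
    (h : ∀ z : Γ((tw c).obj M, ⊤), ∃ s : Fin r → Γ(M, ⊤),
      z = ∑ l : Fin r, (raise c (a l) M).app ⊤ (s l)) : products c M 1 = ⊤ := by
  refine top_le_iff.1 fun w _ => ?_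
  obtain ⟨s, hs⟩ := h (show Γ((tw c).obj M, ⊤) from w)
  have key : ∀ l, (show c.msect M 1 ⊤ from (raise c (a l) M).app ⊤ (s l)) ∈ products c M 1 := fun l =>
    AddSubgroup.subset_closure ⟨(s l, c.sectRes le_top (a l)), c.msect_ext fun i => rfl⟩
  rw [show w = _ from hs]
  exact AddSubgroup.sum_mem _ fun l _ => key l

theorem exists_sum_transfer {n : ℕ} (a : ℕ → c.sect 1 ⊤) {N N' : X.Modules} (α : N' ≅ N)
    (h : ∀ z : Γ((tw c).obj N, ⊤), ∃ s : Fin n → Γ(N, ⊤),
      z = ∑ l : Fin n, (raise c (a l) N).app ⊤ (s l)) (z : Γ((tw c).obj N', ⊤)) :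
    ∃ s : Fin n → Γ(N', ⊤), z = ∑ l : Fin n, (raise c (a l) N').app ⊤ (s l) := by
  obtain ⟨s, hs⟩ := h (((tw c).map α.hom).app ⊤ z)
  refine ⟨fun l => α.inv.app ⊤ (s l), ?_⟩
  have hz : z = ((tw c).map α.inv).app ⊤ (((tw c).map α.hom).app ⊤ z) := by
    rw [← ConcreteCategory.comp_apply, ← Scheme.Modules.Hom.comp_app, ← Functor.map_comp, α.hom_inv_id,
      CategoryTheory.Functor.map_id]
    rfl
  rw [hz, hs, map_sum]
  refine Finset.sum_congr rfl fun l _ => ?_
  rw [← ConcreteCategory.comp_apply, ← ConcreteCategory.comp_apply, ← Scheme.Modules.Hom.comp_app,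
    ← Scheme.Modules.Hom.comp_app, raise_naturality]

theorem nonempty_twPow_tensor {L : X.Modules} (e : L ≅ c.twist 1) : ∀ (s : ℕ) (N : X.Modules),
    Nonempty ((twPow c s).obj N ≅ CohB1.tensorMod N (CohB1.tensorPow L s)) := by
  intro s
  induction s with
  | zero => exact fun N => ⟨(OX.tensorUnitLeftIso N).symm ≪≫ GrTilde.tensorModComm _ _⟩
  | succ s ih =>
    intro N
    obtain ⟨g⟩ := ih ((tw c).obj N)
    obtain ⟨q⟩ := c.nonempty_tensor_modTwist N 1
    exact ⟨g ≪≫ Ample.LineData.tensorModMapIso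
        (q.symm ≪≫ Ample.LineData.tensorModMapIso (Iso.refl N) e.symm) (Iso.refl _) ≪≫
      OX.tensorAssoc N L _ ≪≫ Ample.LineData.tensorModMapIso (Iso.refl N) (GrTilde.tensorModComm _ _)⟩

variable (k : Type u) [Field k] [X.Over (Spec (CommRingCat.of k))]

/-- The Koszul surjectivity statement. -/
theorem surjective_mul_of_vanishing {L : X.Modules} (hL : PicF.IsInvertible L)
    [FiniteDimensional k (Coh.HH X L 0)]
    (hgg : Curv2.IsGloballyGenerated L) {M : X.Modules} (hM : ClSub.IsInverseOf M L) (b : ℕ)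
    (hvan₁ : ∀ q : ℕ, 1 ≤ q → q ≤ b → q < Module.finrank k (Coh.HH X L 0) →
      Subsingleton (Coh.HH X (CohB1.tensorPow L (b - q)) q))
    (hvan₂ : ∀ q : ℕ, b < q → q < Module.finrank k (Coh.HH X L 0) →
      Subsingleton (Coh.HH X (CohB1.tensorPow M (q - b)) q)) :
    Function.Surjective
      ((toSheafify (Opens.grothendieckTopology X) (CohB1.tensorPre (CohB1.tensorPow L b) L).presheaf).app (op ⊤)) := by
  classical
  obtain ⟨c, ⟨e⟩⟩ := Ample.exists_cocycle hL
  let r := Module.finrank k (Coh.HH X L 0)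
  let v := Module.finBasis k (Coh.HH X L 0)
  obtain ⟨r', hr⟩ : ∃ r', r' = r - 1 := ⟨_, rfl⟩
  let a : ℕ → c.sect 1 ⊤ := fun l => if h : l < r then e.hom.app ⊤ (ProjCoh.H0top L (v ⟨l, h⟩)) else 0
  -- the sections cover
  have hepi : Epi (Sigma.desc fun l : Fin (r' + 1) => c.hom (a l)) := by
    obtain ⟨ι, p, hp⟩ := hgg
    haveI : Epi (p ≫ e.hom) := epi_comp _ _
    refine epi_desc_of_generators (p ≫ e.hom) _ fun z => ?_
    obtain ⟨y, hy⟩ := (ProjCoh.H0top L).surjective (e.inv.app ⊤ z)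
    have hz : z = e.hom.app ⊤ (ProjCoh.H0top L y) := by
      rw [hy, ← ConcreteCategory.comp_apply, ← Scheme.Modules.Hom.comp_app, e.inv_hom_id]
      rfl
    subst hz
    clear hy
    have hy : y ∈ Submodule.span k (Set.range v) := v.span_eq ▸ Submodule.mem_top
    induction hy using Submodule.span_induction with
    | mem w hw =>
      obtain ⟨⟨l, hl⟩, rfl⟩ := hw
      refine Submodule.subset_span ⟨(Sigma.ι (fun _ : Fin (r' + 1) => Coh.structureModule X)
        ⟨l, by omega⟩).app ⊤ (show Γ(Coh.structureModule X, ⊤) from (1 : Γ(X, ⊤))), ?_⟩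
      dsimp only
      rw [← ConcreteCategory.comp_apply, ← Scheme.Modules.Hom.comp_app, Sigma.ι_desc]
      refine (c.hom_app_one (a l) ⊤).trans ?_
      have hal : a l = e.hom.app ⊤ (ProjCoh.H0top L (v ⟨l, hl⟩)) := dif_pos hl
      refine Eq.trans (c.sect_ext fun i => ?_) hal
      rw [c.sectRes_apply]
      exact Ample.res_self _ _
    | zero => rw [map_zero, map_zero]; exact Submodule.zero_mem _
    | add y y' _ _ hy hy' => rw [map_add, map_add]; exact Submodule.add_mem _ hy hy'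
    | smul t y _ hy => rw [ProjCoh.H0top_smul, Ample.app_smul]; exact Submodule.smul_mem _ _ hy
  have hcov : Covers c a (r' + 1) := fun x => by
    obtain ⟨l, hl⟩ := covers_of_epi c (fun l : Fin (r' + 1) => a l) hepi x
    exact ⟨l, l.2, hl⟩
  -- the bottom module
  obtain ⟨hMi, hcls⟩ := NefGrowth.cls_inverse hL hM
  obtain ⟨M₀, hM₀, hM₀c⟩ : ∃ (M₀ : X.Modules) (h : PicF.IsInvertible M₀),
      Cube.clsMod h = Cube.clsMod hL ^ ((b : ℤ) - r') := by
    rcases le_or_gt r' b with h | h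
    · refine ⟨CohB1.tensorPow L (b - r'), Ample.isInvertible_tensorPow hL _, ?_⟩
      rw [Cube.clsMod_tensorPow hL, ← Nat.cast_sub h, zpow_natCast]
    · refine ⟨CohB1.tensorPow M (r' - b), Ample.isInvertible_tensorPow hMi _, ?_⟩
      rw [Cube.clsMod_tensorPow hMi, eq_inv_of_mul_eq_one_left hcls, inv_pow,
        show (b : ℤ) - r' = -((r' - b : ℕ) : ℤ) by omega, zpow_neg, zpow_natCast]
  have hpow : ∀ (s : ℕ) (N : X.Modules) (hN : PicF.IsInvertible N),
      Cube.clsMod hN = Cube.clsMod hL ^ ((b : ℤ) - r' + s) → Nonempty ((twPow c s).obj M₀ ≅ N) := by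
    intro s N hN hc
    obtain ⟨g⟩ := nonempty_twPow_tensor c e s M₀
    refine ((Cube.clsMod_eq_iff (Ample.isInvertible_tensorMod hM₀ (Ample.isInvertible_tensorPow hL s)) hN).1 ?_).map
      (g ≪≫ ·)
    rw [Cube.clsMod_tensorMod hM₀ (Ample.isInvertible_tensorPow hL s), hM₀c, Cube.clsMod_tensorPow hL, hc,
      ← zpow_natCast, ← zpow_add]
  have hv : ∀ s, s < r' → Subsingleton (Coh.HH X ((twPow c s).obj M₀) (1 + (r' - 1 - s))) := by
    intro s hs
    obtain ⟨q, hq⟩ : ∃ q, 1 + (r' - 1 - s) = q := ⟨_, rfl⟩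
    rw [hq]
    rcases le_or_gt q b with h | h
    · obtain ⟨g⟩ := hpow s _ (Ample.isInvertible_tensorPow hL (b - q)) (by
        rw [Cube.clsMod_tensorPow hL, ← zpow_natCast]; congr 1; omega)
      exact subsingleton_of_iso g.symm (hvan₁ q (by omega) h (by omega))
    · obtain ⟨g⟩ := hpow s _ (Ample.isInvertible_tensorPow hMi (q - b)) (by
        rw [Cube.clsMod_tensorPow hMi, eq_inv_of_mul_eq_one_left hcls, inv_pow, ← zpow_natCast, ← zpow_neg]
        congr 1
        omega)
      exact subsingleton_of_iso g.symm (hvan₂ q h (by omega))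
  obtain ⟨g⟩ := hpow r' _ (Ample.isInvertible_tensorPow hL b) (by
    rw [Cube.clsMod_tensorPow hL, ← zpow_natCast]; congr 1; omega)
  refine surjective_toSheafify (c := c) (n := 1) e
    (products_one_of_sum c (fun l : Fin (r' + 1) => a l) (CohB1.tensorPow L b)
      (exists_sum_transfer c a g.symm fun z => ?_))
  let α := twCommIso c r' M₀
  obtain ⟨s, hs⟩ := exists_sum_twPow hcov M₀ hv (α.hom.app ⊤ z)
  refine ⟨s, ?_⟩
  apply (ConcreteCategory.bijective_of_isIso (α.hom.app ⊤)).1
  rw [hs, map_sum]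
  refine Finset.sum_congr rfl fun l _ => ?_
  rw [← raise_twCommIso]
  rfl

end GrothLib.CMReg
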