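import Groth.Agent.Lib.Ample.ModTwistMap
import Groth.Agent.Lib.SerreVanish.Main

/-!
# The twisting functor of a cocycle and multiplication by its sections
-/

universe u

set_option backward.isDefEq.respectTransparency false

open AlgebraicGeometry CategoryTheory CategoryTheory.Limits TopologicalSpace Opposite
open GrothLib.InvExt (mres)
open GrothLib.Ample (Cocycle res)
open GrothLib.Ample

noncomputable section

namespace GrothLib.CMReg

variable {X : Scheme.{u}} (c : Cocycle X)

/-- Twisting once, as a functor. -/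
def tw : X.Modules ⥤ X.Modules where
  obj M := c.modTwist M 1
  map f := c.mtwistMap f 1
  map_id M := Scheme.Modules.hom_ext _ _ fun V => by
    ext (b : c.msect M 1 V)
    exact c.msect_ext fun i => rfl
  map_comp f g := SerreVanish.mtwistMap_comp c f g 1

instance : (tw c).Additive where
  map_add {M N f g} := Scheme.Modules.hom_ext _ _ fun V => by
    ext (b : c.msect M 1 V)
    exact c.msect_ext fun i => by rfl

/-- Multiplication by a section, `M ⟶ M(1)`. -/
def raise (a : c.sect 1 ⊤) (M : X.Modules) : M ⟶ (tw c).obj M :=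
  ⟨{
    app := fun V => ModuleCat.ofHom
      (X := (M.val.obj V : Type u))
      (Y := ((c.modTwist M 1).val.obj V : Type u))
      { toFun := fun (μ : Γ(M, V.unop)) => c.smulSect μ (c.sectRes le_top a)
        map_add' := fun (μ μ' : Γ(M, V.unop)) => c.msect_ext fun i => by
          show _ • mres M _ (μ + μ') = _
          rw [show mres M (inf_le_left : V.unop ⊓ c.D i ≤ V.unop) (μ + μ') = _ from map_add _ _ _, smul_add]
          rfl
        map_smul' := fun (r : Γ(X, V.unop)) (μ : Γ(M, V.unop)) => c.msect_ext fun i => by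
          show _ • mres M _ (r • μ) = res (inf_le_left : V.unop ⊓ c.D i ≤ V.unop) r • _
          rw [mres_smul', smul_comm]
          rfl }
    naturality := fun {V W} f => by
      ext (μ : Γ(M, V.unop))
      refine c.msect_ext fun i => ?_
      show _ • mres M _ (mres M (leOfHom f.unop) μ) = mres M _ ((c.sectRes _ a).1 i • mres M _ μ)
      rw [mres_smul', Cocycle.sectRes_apply, Cocycle.sectRes_apply, res_res, InvExt.mres_mres,
        InvExt.mres_mres] }⟩

theorem raise_app_apply (a : c.sect 1 ⊤) (M : X.Modules) (V : X.Opens) (μ : Γ(M, V)) (i : c.ι) :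
    (show c.msect M 1 V from (raise c a M).app V μ).1 i =
      res (inf_le_inf_right _ (le_top : V ≤ ⊤)) (a.1 i) • mres M inf_le_left μ := rfl

theorem raise_naturality (a : c.sect 1 ⊤) {M N : X.Modules} (f : M ⟶ N) :
    raise c a M ≫ (tw c).map f = f ≫ raise c a N :=
  Scheme.Modules.hom_ext _ _ fun V => by
    ext (μ : Γ(M, V))
    refine c.msect_ext fun i => ?_
    refine (app_smul f _ _).trans ?_
    exact congrArg (_ • ·) (app_mres f _ μ)

/-- Multiplication by a section as a natural transformation. -/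
def raiseNat (a : c.sect 1 ⊤) : 𝟭 X.Modules ⟶ tw c where
  app M := raise c a M
  naturality _ _ f := (raise_naturality c a f).symm

theorem tw_map_raise (a : c.sect 1 ⊤) (M : X.Modules) :
    (tw c).map (raise c a M) = raise c a ((tw c).obj M) :=
  Scheme.Modules.hom_ext _ _ fun V => by
    ext (b : c.msect M 1 V)
    refine c.msect_ext fun i => c.msect_ext fun l => ?_
    show res _ (a.1 l) • mres M (inf_le_left : V ⊓ c.D i ⊓ c.D l ≤ V ⊓ c.D i) (b.1 i) =
      res (inf_le_left : V ⊓ c.D i ⊓ c.D l ≤ V ⊓ c.D i)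
          (res (inf_le_inf_right _ (le_top : V ≤ ⊤)) (a.1 i)) •
        mres M (inf_le_inf_right _ (inf_le_left : V ⊓ c.D i ≤ V)) (b.1 l)
    have ha := c.sect_spec a l i (W := V ⊓ c.D i ⊓ c.D l)
      (le_inf le_top inf_le_right) (le_inf le_top (inf_le_left.trans inf_le_right))
    have hb := c.msect_spec b l i (W := V ⊓ c.D i ⊓ c.D l)
      (le_inf (inf_le_left.trans inf_le_left) inf_le_right) (inf_le_left : _ ≤ V ⊓ c.D i)
    rw [res_res, ha, hb, pow_one, smul_smul, mul_comm]

/-- Bijectivity on all opens inside `W`. -/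
def IsoOn {M N : X.Modules} (f : M ⟶ N) (W : X.Opens) : Prop :=
  ∀ T ≤ W, Function.Bijective (f.app T)

theorem isoOn_tw_map {M N : X.Modules} {f : M ⟶ N} {W : X.Opens} (h : IsoOn f W) :
    IsoOn ((tw c).map f) W := by
  intro T hT
  constructor
  · intro (b : c.msect M 1 T) (b' : c.msect M 1 T) e
    exact c.msect_ext fun i => (h _ (inf_le_left.trans hT)).1 (congrArg (fun t : c.msect N 1 T => t.1 i) e)
  · intro (t : c.msect N 1 T)
    choose β hβ using fun i => (h (T ⊓ c.D i) (inf_le_left.trans hT)).2 (t.1 i)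
    refine ⟨(⟨β, fun i j U hi hj => (h U (hi.trans (inf_le_left.trans hT))).1 ?_⟩ : c.msect M 1 T),
      c.msect_ext hβ⟩
    rw [app_smul, app_mres, app_mres, hβ, hβ]
    exact c.msect_spec t i j hi hj

theorem isoOn_raise (a : c.sect 1 ⊤) (M : X.Modules) : IsoOn (raise c a M) (c.locus a) := by
  intro T hT
  have hu : ∀ i, IsUnit (res (inf_le_inf_right (c.D i) (le_top : T ≤ ⊤)) (a.1 i)) := fun i => by
    refine X.toRingedSpace.isUnit_of_isUnit_germ _ _ fun x hx => ?_
    refine (Scheme.mem_basicOpen _ _ _ hx).1 ?_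
    rw [Scheme.basicOpen_res]
    exact ⟨hx, (c.mem_locus_iff a hx.2).1 (hT hx.1)⟩
  constructor
  · intro μ μ' e
    refine meq_of_cover M (fun i => T ⊓ c.D i) (fun _ => inf_le_left) (c.iSup_inf_D T) fun i => ?_
    exact (hu i).smul_left_cancel.1 (congrArg (fun t : c.msect M 1 T => t.1 i) e)
  · intro (t : c.msect M 1 T)
    let ν : ∀ i, Γ(M, T ⊓ c.D i) := fun i => (↑(hu i).unit⁻¹ : Γ(X, T ⊓ c.D i)) • t.1 i
    have hν : ∀ i, res (inf_le_inf_right (c.D i) (le_top : T ≤ ⊤)) (a.1 i) • ν i = t.1 i := fun i => by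
      rw [smul_smul, IsUnit.mul_val_inv, one_smul]
    have hcompat : ∀ i j, mres M (inf_le_left : (T ⊓ c.D i) ⊓ (T ⊓ c.D j) ≤ _) (ν i) =
        mres M (inf_le_right : (T ⊓ c.D i) ⊓ (T ⊓ c.D j) ≤ _) (ν j) := by
      intro i j
      refine ((hu i).map (Ample.res (inf_le_left : (T ⊓ c.D i) ⊓ (T ⊓ c.D j) ≤ _))).smul_left_cancel.1 ?_
      rw [← mres_smul', hν, c.msect_spec t i j inf_le_left inf_le_right, ← hν j, mres_smul', smul_smul]
      congr 1
      rw [res_res, res_res]
      exact (c.sect_spec a i j (W := (T ⊓ c.D i) ⊓ (T ⊓ c.D j))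
        (inf_le_left.trans (inf_le_inf_right _ le_top)) (inf_le_right.trans (inf_le_inf_right _ le_top))).symm
    obtain ⟨μ, hμ, -⟩ := TopCat.Sheaf.existsUnique_gluing' ⟨M.presheaf, M.isSheaf⟩ (fun i => T ⊓ c.D i) T
      (fun i => homOfLE inf_le_left) (c.iSup_inf_D T) ν hcompat
    exact ⟨μ, c.msect_ext fun i => (congrArg (_ • ·) (hμ i)).trans (hν i)⟩

/-- Every section near every point is a combination of global ones. -/
def Spanned (M : X.Modules) : Prop :=
  ∀ (O : X.Opens) (m : Γ(M, O)) (x : X), x ∈ O → ∃ (W : X.Opens) (hW : W ≤ O), x ∈ W ∧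
    mres M hW m ∈ Submodule.span Γ(X, W) (Set.range fun s : Γ(M, ⊤) => mres M (le_top : W ≤ ⊤) s)

theorem Spanned.of_iso {M N : X.Modules} (e : M ≅ N) (h : Spanned M) : Spanned N := by
  intro O m x hx
  obtain ⟨W, hW, hxW, hs⟩ := h O (e.inv.app O m) x hx
  refine ⟨W, hW, hxW, ?_⟩
  let L : Γ(M, W) →ₗ[Γ(X, W)] Γ(N, W) :=
    { toFun := fun z => e.hom.app W z
      map_add' := fun _ _ => map_add _ _ _
      map_smul' := fun _ _ => app_smul _ _ _ }
  have h1 := Submodule.mem_map_of_mem (f := L) hs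
  rw [Submodule.map_span] at h1
  have h2 : L (mres M hW (e.inv.app O m)) = mres N hW m := by
    show e.hom.app W _ = _
    rw [app_mres]
    exact congrArg (mres N hW) (congrArg (fun φ => φ.app O m) e.inv_hom_id)
  rw [h2] at h1
  refine Submodule.span_mono ?_ h1
  rintro _ ⟨_, ⟨s, rfl⟩, rfl⟩
  exact ⟨e.hom.app ⊤ s, (app_mres e.hom _ s).symm⟩

/-- Descent of spanning: if the twist is spanned and its global sections are combinations of the
multiples of global sections, the module is spanned. -/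
theorem spanned_of_tw {ι : Type*} [Fintype ι] (a : ι → c.sect 1 ⊤) (M : X.Modules)
    (hsurj : ∀ z : Γ((tw c).obj M, ⊤), ∃ s : ι → Γ(M, ⊤), z = ∑ l, (raise c (a l) M).app ⊤ (s l))
    (h : Spanned ((tw c).obj M)) : Spanned M := by
  intro O m x hx
  obtain ⟨i, hi⟩ := c.exists_mem x
  obtain ⟨W, hW, hxW, hs⟩ := h (O ⊓ c.D i)
    (show Γ((tw c).obj M, O ⊓ c.D i) from c.mbase 1 i inf_le_right (mres M inf_le_left m)) x ⟨hx, hi⟩
  have hWi : W ≤ c.D i := hW.trans inf_le_right
  refine ⟨W, hW.trans inf_le_left, hxW, ?_⟩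
  let L : Γ((tw c).obj M, W) →ₗ[Γ(X, W)] Γ(M, W) :=
    { toFun := fun (b : c.msect M 1 W) => mres M (le_inf le_rfl hWi) (b.1 i)
      map_add' := fun (b b' : c.msect M 1 W) => map_add _ _ _
      map_smul' := fun (r : Γ(X, W)) (b : c.msect M 1 W) => by
        refine (mres_smul' M (le_inf le_rfl hWi) _ _).trans ?_
        rw [res_res, res_self]
        rfl }
  have h1 := Submodule.mem_map_of_mem (f := L) hs
  rw [Submodule.map_span] at h1
  have h2 : L (mres ((tw c).obj M) hW (show Γ((tw c).obj M, O ⊓ c.D i) from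
      c.mbase 1 i inf_le_right (mres M inf_le_left m))) = mres M (hW.trans inf_le_left) m := by
    show mres M _ (mres M _ ((c.mbase 1 i _ _).1 i)) = _
    rw [c.mbase_self]
    simp only [InvExt.mres_mres]
  rw [h2] at h1
  refine Submodule.span_le.2 ?_ h1
  rintro _ ⟨_, ⟨z, rfl⟩, rfl⟩
  obtain ⟨s, rfl⟩ := hsurj z
  beta_reduce
  rw [show mres ((tw c).obj M) (le_top : W ≤ ⊤) (∑ l, (raise c (a l) M).app ⊤ (s l)) = _ from
    map_sum _ _ _, map_sum]
  refine Submodule.sum_mem _ fun l _ => ?_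
  show L (mres ((tw c).obj M) _ ((raise c (a l) M).app ⊤ (s l))) ∈ _
  rw [← app_mres]
  show mres M _ (res _ _ • mres M inf_le_left (mres M _ (s l))) ∈ _
  rw [mres_smul', InvExt.mres_mres, InvExt.mres_mres]
  exact Submodule.smul_mem _ _ (Submodule.subset_span ⟨s l, rfl⟩)

end GrothLib.CMReg
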